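import Cfsg.Agent.Lib.SymSylow.Gen
import Cfsg.Agent.Lib.Classical.SL2Quat
import Cfsg.Agent.S0245
import Mathlib.LinearAlgebra.SymplecticGroup
import Mathlib.LinearAlgebra.Matrix.Permutation
import Mathlib.NumberTheory.Multiplicity
import Mathlib.GroupTheory.SpecificGroups.Quaternion

/-!
# Sylow `2`-subgroups of symplectic groups in odd characteristic

* `sq_mem_commutator_sylow_sp`: their abelianisation has exponent `2`.
-/

namespace CfsgLib.SymSylow

open Matrix
open scoped MatrixGroups

theorem sq_mem_commutator_quaternion {k : ℕ} (hk : 1 ≤ k) (x : QuaternionGroup (2 ^ k)) :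
    x ^ 2 ∈ commutator (QuaternionGroup (2 ^ k)) := by
  have key : ∀ i, QuaternionGroup.a (i + i) ∈ commutator (QuaternionGroup (2 ^ k)) := fun i => by
    have h := Subgroup.commutator_mem_commutator (H₁ := ⊤) (H₂ := ⊤)
      (Subgroup.mem_top (QuaternionGroup.a i : QuaternionGroup (2 ^ k)))
      (Subgroup.mem_top (QuaternionGroup.xa 0))
    rw [commutatorElement_def] at h
    have e : QuaternionGroup.a i * QuaternionGroup.xa 0 * (QuaternionGroup.a i)⁻¹ *
        (QuaternionGroup.xa 0)⁻¹ = (QuaternionGroup.a (i + i) : QuaternionGroup (2 ^ k)) := by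
      rw [mul_inv_eq_iff_eq_mul, mul_inv_eq_iff_eq_mul, QuaternionGroup.a_mul_xa,
        QuaternionGroup.a_mul_xa, QuaternionGroup.xa_mul_a]
      congr 1; ring
    rwa [e] at h
  rcases x with i | i
  · rw [sq, QuaternionGroup.a_mul_a]
    exact key i
  · have e : ((2 ^ k : ℕ) : ZMod (2 * 2 ^ k)) =
        ((2 ^ (k - 1) : ℕ) : ZMod (2 * 2 ^ k)) + ((2 ^ (k - 1) : ℕ) : ZMod (2 * 2 ^ k)) := by
      rw [← Nat.cast_add, ← mul_two, ← pow_succ, Nat.sub_add_cancel hk]
    rw [QuaternionGroup.xa_sq, e]
    exact key _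

/-- Squares of a generating set in the commutator give all squares. -/
theorem sq_mem_commutator_of_gen {H : Type*} [Group H] {T : Set H} {K : Subgroup H}
    (hT : Subgroup.closure T = K)
    (h : ∀ (t : H) (ht : t ∈ T), (⟨t, hT ▸ Subgroup.subset_closure ht⟩ : K) ^ 2 ∈ commutator K)
    (g : K) : g ^ 2 ∈ commutator K := by
  let φ : K →* Abelianization K := (powMonoidHom 2).comp Abelianization.of
  subst hT
  have hle : (⊤ : Subgroup (Subgroup.closure T)) ≤ φ.ker := by
    rw [← Subgroup.closure_closure_coe_preimage (k := T), Subgroup.closure_le]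
    intro y hy
    show (Abelianization.of y) ^ 2 = 1
    rw [← map_pow, ← MonoidHom.mem_ker, Abelianization.ker_of]
    exact h _ hy
  rw [← Abelianization.ker_of, MonoidHom.mem_ker, map_pow]
  exact MonoidHom.mem_ker.mp (hle (Subgroup.mem_top g))

/-- Images of squares in the commutator. -/
theorem sq_mem_commutator_of_hom {A H : Type*} [Group A] [Group H] {K : Subgroup H} (f : A →* H)
    (hf : ∀ a, f a ∈ K) {a : A} (ha : a ^ 2 ∈ commutator A) :
    (⟨f a, hf a⟩ : K) ^ 2 ∈ commutator K := by
  have h := Subgroup.mem_map_of_mem (f.codRestrict K hf) ha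
  rw [map_pow, commutator_def, Subgroup.map_commutator] at h
  exact Subgroup.commutator_mono le_top le_top h

variable {F : Type*} [Field F] {n : ℕ}

/-- Diagonal blocks. -/
def spBlk : (Fin n → SpecialLinearGroup (Fin 2) F) →* Matrix.symplecticGroup (Fin n) F where
  toFun x := ⟨fromBlocks (diagonal fun i => (x i).1 0 0) (diagonal fun i => (x i).1 0 1)
      (diagonal fun i => (x i).1 1 0) (diagonal fun i => (x i).1 1 1), by
    rw [SymplecticGroup.mem_iff, Matrix.J, fromBlocks_multiply, fromBlocks_transpose,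
      fromBlocks_multiply]
    have hd : ∀ i, (x i).1 0 0 * (x i).1 1 1 - (x i).1 0 1 * (x i).1 1 0 = 1 := fun i => by
      rw [← Matrix.det_fin_two]; exact (x i).2
    congr 1
    · simp only [diagonal_transpose, mul_zero, zero_add, add_zero, mul_neg, mul_one,
        neg_mul, diagonal_mul_diagonal]
      ext i j; by_cases h : i = j <;> simp [h, mul_comm]
    · simp only [diagonal_transpose, mul_zero, zero_add, add_zero, mul_neg, mul_one,
        neg_mul, diagonal_mul_diagonal]
      ext i j; by_cases h : i = j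
      · subst h; simp only [Matrix.add_apply, Matrix.neg_apply, diagonal_apply_eq, one_apply_eq]
        linear_combination -hd i
      · simp [h]
    · simp only [diagonal_transpose, mul_zero, zero_add, add_zero, mul_neg, mul_one,
        neg_mul, diagonal_mul_diagonal]
      ext i j; by_cases h : i = j
      · subst h; simp only [Matrix.add_apply, Matrix.neg_apply, diagonal_apply_eq, one_apply_eq]
        linear_combination hd i
      · simp [h]
    · simp only [diagonal_transpose, mul_zero, zero_add, add_zero, mul_neg, mul_one,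
        neg_mul, diagonal_mul_diagonal]
      ext i j; by_cases h : i = j <;> simp [h, mul_comm]⟩
  map_one' := Subtype.ext (by simp)
  map_mul' x y := Subtype.ext (by
    simp [fromBlocks_multiply, Matrix.mul_apply, Fin.sum_univ_two, diagonal_add])

/-- Permutations of the hyperbolic pairs. -/
def spPerm : Equiv.Perm (Fin n) →* Matrix.symplecticGroup (Fin n) F where
  toFun w := ⟨fromBlocks (w⁻¹.permMatrix F) 0 0 (w⁻¹.permMatrix F), by
    rw [SymplecticGroup.mem_iff, Matrix.J, fromBlocks_multiply, fromBlocks_transpose,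
      fromBlocks_multiply]
    simp [Matrix.transpose_permMatrix, ← Matrix.permMatrix_mul]⟩
  map_one' := Subtype.ext (by simp)
  map_mul' a b := Subtype.ext (by simp [fromBlocks_multiply, Matrix.permMatrix_mul])

theorem spPerm_mul_spBlk (w : Equiv.Perm (Fin n)) (x : Fin n → SpecialLinearGroup (Fin 2) F) :
    spPerm w * spBlk x = spBlk (fun i => x (w.symm i)) * spPerm w := by
  have e : ∀ f : Fin n → F, w⁻¹.permMatrix F * diagonal f =
      diagonal (fun i => f (w.symm i)) * w⁻¹.permMatrix F := fun f => by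
    ext i j
    rw [Matrix.mul_diagonal, Matrix.diagonal_mul]
    by_cases h : w.symm i = j
    · subst h; simp [Equiv.Perm.permMatrix, PEquiv.toMatrix_apply, mul_comm]
    · simp [Equiv.Perm.permMatrix, PEquiv.toMatrix_apply, h]
  refine Subtype.ext ?_
  simp [spPerm, spBlk, fromBlocks_multiply, e]

theorem spBlk_eq_spPerm {z : Fin n → SpecialLinearGroup (Fin 2) F} {w : Equiv.Perm (Fin n)}
    (h : spBlk z = spPerm w) : z = 1 ∧ w = 1 := by
  have h1 := fun i j => congrArg
    (fun M : Matrix.symplecticGroup (Fin n) F => (M.1 (Sum.inl i) (Sum.inl j))) h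
  have h2 := fun i j => congrArg
    (fun M : Matrix.symplecticGroup (Fin n) F => (M.1 (Sum.inl i) (Sum.inr j))) h
  have h3 := fun i j => congrArg
    (fun M : Matrix.symplecticGroup (Fin n) F => (M.1 (Sum.inr i) (Sum.inl j))) h
  have h4 := fun i j => congrArg
    (fun M : Matrix.symplecticGroup (Fin n) F => (M.1 (Sum.inr i) (Sum.inr j))) h
  have hw : w = 1 := by
    refine Equiv.ext fun i => ?_
    by_contra hne
    change ¬ w i = i at hne
    have := h1 (w i) i
    simp [spBlk, spPerm, Equiv.Perm.permMatrix, PEquiv.toMatrix_apply,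
      diagonal_apply_ne _ hne] at this
  subst hw
  refine ⟨funext fun i => ?_, rfl⟩
  refine Subtype.ext ?_
  have a1 := h1 i i
  have a2 := h2 i i
  have a3 := h3 i i
  have a4 := h4 i i
  simp [spBlk, spPerm, Equiv.Perm.permMatrix, PEquiv.toMatrix_apply] at a1 a2 a3 a4
  ext r s
  fin_cases r <;> fin_cases s <;> simp [a1, a2, a3, a4]

variable [Fintype F]

theorem factorization_card_sp (hF : Odd (Fintype.card F)) (m : ℕ) :
    (Nat.card (Matrix.symplecticGroup (Fin m) F)).factorization 2 =
      m * (Nat.card (SpecialLinearGroup (Fin 2) F)).factorization 2 +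
        m.factorial.factorization 2 := by
  have : Fact (Nat.Prime 2) := ⟨Nat.prime_two⟩
  set q := Fintype.card F with hq
  have hq1 : 1 < q := Fintype.one_lt_card
  have hq2 : ¬ 2 ∣ q := by rw [← even_iff_two_dvd]; exact Nat.not_even_iff_odd.mpr hF
  rw [Cfsg.Agent.S0245.result hq.symm, CfsgLib.Classical.card_SL_two hq.symm,
    Nat.factorization_def _ Nat.prime_two, Nat.factorization_def _ Nat.prime_two,
    Nat.factorization_def _ Nat.prime_two]
  have hv : ∀ i : ℕ, padicValNat 2 (q ^ (2 * (i + 1)) - 1) =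
      padicValNat 2 (q * ((q - 1) * (q + 1))) + padicValNat 2 (i + 1) := fun i => by
    have h := padicValNat.pow_two_sub_pow (x := q) (y := 1) hq1 (by omega) hq2
      (n := 2 * (i + 1)) (by omega) (even_two_mul _)
    rw [one_pow, padicValNat.mul (by norm_num) (by omega), padicValNat.self (by norm_num)] at h
    rw [padicValNat.mul (by omega) (Nat.mul_ne_zero (by omega) (by omega)),
      padicValNat.mul (by omega) (by omega), padicValNat.eq_zero_of_not_dvd hq2]
    omega
  have hne : ∀ i : ℕ, q ^ (2 * (i + 1)) - 1 ≠ 0 := fun i =>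
    (Nat.sub_pos_of_lt (Nat.one_lt_pow (by omega) hq1)).ne'
  rw [padicValNat.mul (pow_ne_zero _ (by omega)) (Finset.prod_ne_zero_iff.mpr fun i _ => hne i),
    padicValNat.pow, padicValNat.eq_zero_of_not_dvd hq2, mul_zero, zero_add]
  clear hF
  induction m with
  | zero => simp
  | succ m ih =>
    rw [Finset.prod_range_succ, padicValNat.mul (Finset.prod_ne_zero_iff.mpr fun i _ => hne i)
      (hne m), ih, hv, Nat.factorial_succ, padicValNat.mul (by omega) m.factorial_ne_zero]
    ring

set_option maxHeartbeats 800000 in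
theorem sq_mem_commutator_sylow_sp (hF : Odd (Fintype.card F))
    (P : Sylow 2 (Matrix.symplecticGroup (Fin n) F))
    (x : (P : Subgroup (Matrix.symplecticGroup (Fin n) F))) :
    x ^ 2 ∈ commutator (P : Subgroup (Matrix.symplecticGroup (Fin n) F)) := by
  classical
  have : Fact (Nat.Prime 2) := ⟨Nat.prime_two⟩
  have h2 : (2 : F) ≠ 0 := by
    intro h
    haveI := CharTwo.of_one_ne_zero_of_two_eq_zero (R := F) one_ne_zero h
    have hc : ringChar F = 2 := ringChar.eq F 2
    have h1 : Fintype.card F % 2 = 0 := FiniteField.even_card_iff_char_two.mp hc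
    rw [Nat.odd_iff] at hF
    omega
  let P₀ : Sylow 2 (SpecialLinearGroup (Fin 2) F) := default
  obtain ⟨k, hk, ⟨e⟩⟩ := Classical.SL2Q.sylow_two_quaternion h2 P₀
  have hP₀ : ∀ g : (P₀ : Subgroup (SpecialLinearGroup (Fin 2) F)),
      g ^ 2 ∈ commutator (P₀ : Subgroup (SpecialLinearGroup (Fin 2) F)) := fun g => by
    have h := Subgroup.mem_map_of_mem e.symm.toMonoidHom (sq_mem_commutator_quaternion hk (e g))
    rw [commutator, Subgroup.map_commutator,
      Subgroup.map_top_of_surjective _ e.symm.surjective, ← map_pow] at h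
    simpa [commutator_def] using h
  obtain ⟨W₀, S, hS, hgood, hcW⟩ := exists_sylow_gen 2 n
  -- the wreath product
  let K : Subgroup (Matrix.symplecticGroup (Fin n) F) :=
    { carrier := {g | ∃ a : Fin n → SpecialLinearGroup (Fin 2) F, (∀ i, a i ∈ P₀) ∧
        ∃ w ∈ W₀, g = spBlk a * spPerm w}
      one_mem' := ⟨1, fun _ => one_mem _, 1, W₀.one_mem, by simp⟩
      mul_mem' := by
        rintro _ _ ⟨a, ha, v, hv, rfl⟩ ⟨b, hb, w, hw, rfl⟩
        refine ⟨a * fun i => b (v.symm i), fun i => mul_mem (ha i) (hb _), v * w,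
          W₀.mul_mem hv hw, ?_⟩
        rw [map_mul, map_mul, mul_assoc (spBlk a), ← mul_assoc (spPerm v), spPerm_mul_spBlk]
        simp only [mul_assoc]
      inv_mem' := by
        rintro _ ⟨a, ha, v, hv, rfl⟩
        refine ⟨fun i => a⁻¹ (v⁻¹.symm i), fun i => inv_mem (ha _), v⁻¹, W₀.inv_mem hv, ?_⟩
        rw [_root_.mul_inv_rev, ← map_inv, ← map_inv, spPerm_mul_spBlk] }
  have hKcard : Nat.card K = 2 ^ (Nat.card (Matrix.symplecticGroup (Fin n) F)).factorization 2 := by
    have hb : Nat.card ((Fin n → (P₀ : Subgroup (SpecialLinearGroup (Fin 2) F))) × W₀) =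
        Nat.card K := by
      refine Nat.card_eq_of_bijective (fun x => (⟨spBlk (fun i => (x.1 i).1) * spPerm x.2.1,
        _, fun i => (x.1 i).2, x.2.1, x.2.2, rfl⟩ : K)) ⟨?_, ?_⟩
      · intro x y h
        have h1 := congrArg Subtype.val h
        simp only at h1
        have h3 : spBlk ((fun i => (y.1 i).1)⁻¹ * fun i => (x.1 i).1) =
            spPerm (y.2.1 * x.2.1⁻¹) := by
          rw [map_mul, map_inv, map_mul, map_inv]
          calc (spBlk fun i => (y.1 i).1)⁻¹ * spBlk (fun i => (x.1 i).1)
              = (spBlk fun i => (y.1 i).1)⁻¹ * (spBlk (fun i => (x.1 i).1) * spPerm x.2.1) *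
                (spPerm x.2.1)⁻¹ := by group
            _ = _ := by rw [h1]; group
        obtain ⟨hz, hw⟩ := spBlk_eq_spPerm h3
        refine Prod.ext (funext fun i => Subtype.ext ?_) (Subtype.ext ?_)
        · have := congrFun hz i
          exact (inv_mul_eq_one.mp this).symm
        · exact (mul_inv_eq_one.mp hw).symm
      · rintro ⟨_, a, ha, w, hw, rfl⟩
        exact ⟨(fun i => ⟨a i, ha i⟩, ⟨w, hw⟩), rfl⟩
    rw [← hb, Nat.card_prod, Nat.card_pi, Finset.prod_const, Finset.card_univ, Fintype.card_fin,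
      P₀.card_eq_multiplicity, hcW, ← pow_mul, ← pow_add, factorization_card_sp hF, mul_comm n]
  -- generators
  let T : Set (Matrix.symplecticGroup (Fin n) F) :=
    {g | ∃ i, ∃ a ∈ P₀, g = spBlk (Pi.mulSingle i a)} ∪ spPerm '' S
  have hblk : ∀ i, ∀ a ∈ P₀, spBlk (Pi.mulSingle i a) ∈ K := fun i a ha =>
    ⟨Pi.mulSingle i a, fun j => by
      by_cases h : j = i
      · subst h; simpa using ha
      · simpa [h] using one_mem _, 1, W₀.one_mem, by simp⟩
  have hT : Subgroup.closure T = K := by
    refine le_antisymm (Subgroup.closure_le _ |>.mpr ?_) ?_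
    · rintro _ (⟨i, a, ha, rfl⟩ | ⟨w, hw, rfl⟩)
      · exact hblk i a ha
      · exact ⟨1, fun _ => one_mem _, w, hS ▸ Subgroup.subset_closure hw, by simp⟩
    · rintro _ ⟨a, ha, w, hw, rfl⟩
      refine Subgroup.mul_mem _ ?_ ?_
      · show a ∈ (Subgroup.closure T).comap spBlk
        exact Subgroup.pi_mem_of_mulSingle_mem a fun i =>
          Subgroup.subset_closure (Or.inl ⟨i, a i, ha i, rfl⟩)
      · have h' : spPerm w ∈ W₀.map (spPerm (F := F)) := Subgroup.mem_map_of_mem _ hw
        rw [← hS, MonoidHom.map_closure] at h'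
        exact Subgroup.closure_mono Set.subset_union_right h'
  have hgen : ∀ g : K, g ^ 2 ∈ commutator K := sq_mem_commutator_of_gen hT fun t ht => by
    obtain ⟨i, a, ha, rfl⟩ | ⟨w, hw, rfl⟩ := ht
    · let f : (P₀ : Subgroup (SpecialLinearGroup (Fin 2) F)) →* Matrix.symplecticGroup (Fin n) F :=
        MonoidHom.mk' (fun b => spBlk (Pi.mulSingle i (b : SpecialLinearGroup (Fin 2) F)))
          fun b b' => by rw [Subgroup.coe_mul, Pi.mulSingle_mul, map_mul]
      have h := sq_mem_commutator_of_hom f (fun b => hblk i b.1 b.2) (hP₀ ⟨a, ha⟩)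
      exact h
    · convert one_mem (commutator K) using 1
      refine Subtype.ext ?_
      show (spPerm (F := F) w) ^ 2 = 1
      rw [← map_pow, (hgood w hw).1, map_one]
  obtain ⟨c, hc⟩ := MulAction.exists_smul_eq (Matrix.symplecticGroup (Fin n) F)
    (Sylow.ofCard K hKcard) P
  have hmem : ∀ y, y ∈ P → c⁻¹ * y * c ∈ K := fun y hy => by
    rw [← hc] at hy
    obtain ⟨z, hz, rfl⟩ := hy
    show c⁻¹ * (c * z * c⁻¹) * c ∈ K
    simpa [mul_assoc] using hz
  have hmem' : ∀ z : K, c * z * c⁻¹ ∈ P := fun z => by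
    rw [← hc]
    exact ⟨z, z.2, rfl⟩
  have h := sq_mem_commutator_of_hom ((MulAut.conj c).toMonoidHom.comp K.subtype) hmem'
    (hgen ⟨_, hmem x x.2⟩)
  convert h using 2
  refine Subtype.ext ?_
  show (x : Matrix.symplecticGroup (Fin n) F) = c * (c⁻¹ * x * c) * c⁻¹
  group

end CfsgLib.SymSylow
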