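import Mathlib.GroupTheory.Sylow
import Mathlib.GroupTheory.Perm.Sign
import Mathlib.GroupTheory.Perm.Cycle.Type
import Mathlib.GroupTheory.SpecificGroups.Alternating
import Mathlib.GroupTheory.Abelianization.Defs
import Mathlib.NumberTheory.Padics.PadicVal.Basic

/-!
# Generators of Sylow subgroups of symmetric and alternating groups

* `exists_sylow_gen`: a subgroup of the full `p`-order generated by elements of order dividing `p`
  which are even or transpositions;
* `pow_mem_commutator_sylow`, `pow_mem_commutator_sylow_alt`: `P / P'` has exponent `p`.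
-/

namespace CfsgLib.SymSylow

open Equiv

/-- Generators of order `p`, each even or a transposition. -/
def Good {X : Type*} [Fintype X] [DecidableEq X] (p : ℕ) (g : Perm X) : Prop :=
  g ^ p = 1 ∧ (p = 2 → Perm.sign g = 1 ∨ g.IsSwap)

theorem good_permCongr {X Y : Type*} [Fintype X] [DecidableEq X] [Fintype Y] [DecidableEq Y]
    (e : X ≃ Y) {p : ℕ} {g : Perm X} (h : Good p g) : Good p (e.permCongrHom g) := by
  refine ⟨by rw [← map_pow, h.1, map_one], fun hp => ?_⟩
  rcases h.2 hp with h2 | ⟨x, y, hxy, rfl⟩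
  · exact Or.inl (by rw [← h2]; exact Perm.sign_permCongr e g)
  · refine Or.inr ⟨e x, e y, e.injective.ne hxy, ?_⟩
    ext z
    simp [Equiv.permCongrHom, Equiv.permCongr_apply, Equiv.swap_apply_def, Equiv.symm_apply_eq]
    split_ifs <;> simp

section Step

variable (p m r : ℕ)

/-- Blocks of size `p` and a remainder. -/
abbrev Blocks : Type := (Fin m × ZMod p) ⊕ Fin r

/-- Translations inside the blocks. -/
def shift : Multiplicative (Fin m → ZMod p) →* Perm (Blocks p m r) where
  toFun a :=
    { toFun := Sum.map (fun x => (x.1, x.2 + a.toAdd x.1)) id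
      invFun := Sum.map (fun x => (x.1, x.2 - a.toAdd x.1)) id
      left_inv := fun x => by rcases x with ⟨i, j⟩ | s <;> simp
      right_inv := fun x => by rcases x with ⟨i, j⟩ | s <;> simp }
  map_one' := by ext x; rcases x with ⟨i, j⟩ | s <;> simp
  map_mul' a b := by
    ext x; rcases x with ⟨i, j⟩ | s <;> simp [add_assoc, add_comm, add_left_comm]

/-- Permutations of the blocks. -/
def lift : Perm (Fin m) →* Perm (Blocks p m r) where
  toFun w := Equiv.sumCongr (Equiv.prodCongrLeft fun _ => w) (Equiv.refl _)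
  map_one' := by ext x; rcases x with ⟨i, j⟩ | s <;> simp
  map_mul' a b := by ext x; rcases x with ⟨i, j⟩ | s <;> simp

theorem lift_mul_shift (w : Perm (Fin m)) (a : Multiplicative (Fin m → ZMod p)) :
    lift p m r w * shift p m r a =
      shift p m r (Multiplicative.ofAdd fun i => a.toAdd (w.symm i)) * lift p m r w := by
  ext x; rcases x with ⟨i, j⟩ | s <;> simp [lift, shift]

theorem pair_injective [NeZero p] {a b : Multiplicative (Fin m → ZMod p)} {v w : Perm (Fin m)}
    (h : shift p m r a * lift p m r v = shift p m r b * lift p m r w) : a = b ∧ v = w := by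
  have h1 : ∀ i j, (v i, j + a.toAdd (v i)) = (w i, j + b.toAdd (w i)) := fun i j => by
    simpa [lift, shift] using Equiv.congr_fun h (Sum.inl (i, j))
  have h2 : v = w := Equiv.ext fun i => congrArg Prod.fst (h1 i 0)
  subst h2
  refine ⟨?_, rfl⟩
  apply Multiplicative.toAdd.injective
  funext i
  simpa using congrArg Prod.snd (h1 (v.symm i) 0)

theorem step [hp : Fact p.Prime] (W : Subgroup (Perm (Fin m))) (S : Set (Perm (Fin m)))
    (hS : Subgroup.closure S = W) (hgood : ∀ g ∈ S, Good p g) :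
    ∃ (W' : Subgroup (Perm (Blocks p m r))) (S' : Set (Perm (Blocks p m r))),
      Subgroup.closure S' = W' ∧ (∀ g ∈ S', Good p g) ∧ Nat.card W' = p ^ m * Nat.card W := by
  classical
  have : NeZero p := ⟨hp.out.ne_zero⟩
  let one' : Fin m → Multiplicative (Fin m → ZMod p) := fun i =>
    Multiplicative.ofAdd (Pi.single i 1)
  let S' : Set (Perm (Blocks p m r)) :=
    Set.range (fun i => shift p m r (one' i)) ∪ lift p m r '' S
  let K : Subgroup (Perm (Blocks p m r)) :=
    { carrier := {g | ∃ a, ∃ w ∈ W, g = shift p m r a * lift p m r w}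
      one_mem' := ⟨1, 1, W.one_mem, by simp⟩
      mul_mem' := by
        rintro _ _ ⟨a, v, hv, rfl⟩ ⟨b, w, hw, rfl⟩
        exact ⟨a * Multiplicative.ofAdd fun i => b.toAdd (v.symm i), v * w, W.mul_mem hv hw, by
          rw [map_mul, map_mul, mul_assoc (shift p m r a), ← mul_assoc (lift p m r v),
            lift_mul_shift]
          simp only [mul_assoc]⟩
      inv_mem' := by
        rintro _ ⟨a, v, hv, rfl⟩
        exact ⟨Multiplicative.ofAdd fun i => a⁻¹.toAdd (v⁻¹.symm i), v⁻¹, W.inv_mem hv, by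
          rw [mul_inv_rev, ← map_inv, ← map_inv, lift_mul_shift]⟩ }
  have hK : Subgroup.closure S' = K := by
    refine le_antisymm (Subgroup.closure_le _ |>.mpr ?_) ?_
    · rintro _ (⟨i, rfl⟩ | ⟨g, hg, rfl⟩)
      · exact ⟨one' i, 1, W.one_mem, by simp⟩
      · exact ⟨1, g, hS ▸ Subgroup.subset_closure hg, by simp⟩
    · rintro _ ⟨a, w, hw, rfl⟩
      refine Subgroup.mul_mem _ ?_ ?_
      · have e : a = ∏ i, one' i ^ (a.toAdd i).val := by
          apply Multiplicative.toAdd.injective
          funext k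
          rw [toAdd_prod, Finset.sum_apply, Finset.sum_eq_single k]
          · simp [one', toAdd_pow, Pi.smul_apply, ZMod.natCast_zmod_val, Pi.natCast_apply]
          · intro b _ hb
            simp [one', toAdd_pow, Pi.smul_apply, Pi.single_apply, hb.symm]
          · simp
        show a ∈ (Subgroup.closure S').comap (shift p m r)
        rw [e]
        refine Subgroup.prod_mem _ fun i _ => Subgroup.pow_mem _ ?_ _
        exact Subgroup.subset_closure (Or.inl ⟨i, rfl⟩)
      · have h2 : (lift p m r w) ∈ W.map (lift p m r) := Subgroup.mem_map_of_mem _ hw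
        rw [← hS, MonoidHom.map_closure] at h2
        exact Subgroup.closure_mono Set.subset_union_right h2
  refine ⟨K, S', hK, ?_, ?_⟩
  · rintro _ (⟨i, rfl⟩ | ⟨g, hg, rfl⟩)
    · refine ⟨?_, fun h2 => Or.inr ?_⟩
      · rw [← map_pow]
        suffices one' i ^ p = 1 by rw [this, map_one]
        apply Multiplicative.toAdd.injective
        funext k
        simp [one', toAdd_pow]
      · subst h2
        refine ⟨Sum.inl (i, 0), Sum.inl (i, 1), by simp, ?_⟩
        ext x
        rcases x with ⟨k, j⟩ | s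
        · by_cases hk : k = i
          · subst hk
            have h11 : (1 : ZMod 2) + 1 = 0 := by decide
            rcases (by decide : ∀ j : ZMod 2, j = 0 ∨ j = 1) j with rfl | rfl <;>
              simp [shift, one', Equiv.swap_apply_def, h11]
          · simp [shift, one', Equiv.swap_apply_def, hk, Pi.single_apply]
        · simp [shift, Equiv.swap_apply_def]
    · refine ⟨by rw [← map_pow, (hgood g hg).1, map_one], fun h2 => Or.inl ?_⟩
      show Perm.sign (Equiv.sumCongr (Equiv.prodCongrLeft fun _ : ZMod p => g) (Equiv.refl _)) = 1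
      rw [Perm.sign_sumCongr, Perm.sign_prodCongrLeft, Perm.sign_refl, mul_one, Finset.prod_const,
        Finset.card_univ, ZMod.card, h2]
      rcases Int.units_eq_one_or (Perm.sign g) with h | h <;> simp [h]
  · have hc : Nat.card (Multiplicative (Fin m → ZMod p) × W) = p ^ m * Nat.card W := by
      simp [Nat.card_prod, Nat.card_pi]
    rw [← hc]
    refine (Nat.card_eq_of_bijective
      (fun x : Multiplicative (Fin m → ZMod p) × W =>
        (⟨shift p m r x.1 * lift p m r x.2, x.1, x.2, x.2.2, rfl⟩ : K)) ⟨?_, ?_⟩).symm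
    · intro x y h
      obtain ⟨h1, h2⟩ := pair_injective p m r (congrArg Subtype.val h)
      exact Prod.ext h1 (Subtype.ext h2)
    · rintro ⟨_, a, w, hw, rfl⟩
      exact ⟨(a, ⟨w, hw⟩), rfl⟩

end Step

theorem exists_sylow_gen (p : ℕ) [hp : Fact p.Prime] (n : ℕ) :
    ∃ (W : Subgroup (Perm (Fin n))) (S : Set (Perm (Fin n))), Subgroup.closure S = W ∧
      (∀ g ∈ S, Good p g) ∧ Nat.card W = p ^ (n.factorial).factorization p := by
  classical
  induction n using Nat.strong_induction_on with
  | _ n ih =>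
  rcases lt_or_ge n p with hn | hn
  · refine ⟨⊥, ∅, Subgroup.closure_empty, by simp, ?_⟩
    rw [Subgroup.card_bot, Nat.factorization_eq_zero_of_not_dvd, pow_zero]
    rw [hp.out.dvd_factorial]
    exact not_le.mpr hn
  obtain ⟨W, S, hS, hg, hc⟩ := ih (n / p)
    (Nat.div_lt_self (hp.out.pos.trans_le hn) hp.out.one_lt)
  obtain ⟨W', S', hS', hg', hc'⟩ := step p (n / p) (n % p) W S hS hg
  have : NeZero p := ⟨hp.out.ne_zero⟩
  let e : Blocks p (n / p) (n % p) ≃ Fin n := Fintype.equivFinOfCardEq (by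
    simp only [Fintype.card_sum, Fintype.card_prod, Fintype.card_fin, ZMod.card]
    exact Nat.div_add_mod' n p)
  refine ⟨W'.map e.permCongrHom.toMonoidHom, e.permCongrHom.toMonoidHom '' S', ?_, ?_, ?_⟩
  · rw [← MonoidHom.map_closure, hS']
  · rintro _ ⟨g, hgS, rfl⟩
    exact good_permCongr e (hg' g hgS)
  · rw [Subgroup.card_map_of_injective (K := W') e.permCongrHom.injective, hc', hc, ← pow_add,
      Nat.factorization_def _ hp.out, Nat.factorization_def _ hp.out]
    congr 1
    rw [← padicValNat_mul_div_factorial n, padicValNat_factorial_mul]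
    ring

/-- A Sylow subgroup is generated by good elements. -/
theorem sylow_gen {p : ℕ} [hp : Fact p.Prime] {n : ℕ} (P : Sylow p (Perm (Fin n))) :
    ∃ T : Set (Perm (Fin n)), Subgroup.closure T = (P : Subgroup _) ∧ ∀ g ∈ T, Good p g := by
  obtain ⟨W, S, hS, hg, hc⟩ := exists_sylow_gen p n
  have hcard : Nat.card W = p ^ (Nat.card (Perm (Fin n))).factorization p := by
    rw [hc, Nat.card_eq_fintype_card (α := Perm (Fin n)), Fintype.card_perm, Fintype.card_fin]
  obtain ⟨c, hc⟩ := MulAction.exists_smul_eq (Perm (Fin n)) (Sylow.ofCard W hcard) P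
  refine ⟨(MulAut.conj c).toMonoidHom '' S, ?_, ?_⟩
  · rw [← MonoidHom.map_closure, hS, ← hc]
    rfl
  · rintro _ ⟨g, hgS, rfl⟩
    refine ⟨?_, fun h2 => ?_⟩
    · rw [← map_pow, (hg g hgS).1, map_one]
    · rcases (hg g hgS).2 h2 with h | h
      · exact Or.inl (by
          show Perm.sign (c * g * c⁻¹) = 1
          simp [h])
      · obtain ⟨x, y, hxy, rfl⟩ := h
        refine Or.inr ⟨c x, c y, c.injective.ne hxy, ?_⟩
        show c * Equiv.swap x y * c⁻¹ = _
        rw [Equiv.swap_apply_apply]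

/-- Abelianisations of groups generated by elements of order `p` have exponent `p`. -/
theorem pow_mem_commutator_of_gen {G : Type*} [Group G] {p : ℕ} {H : Subgroup G} {T : Set G}
    (hT : Subgroup.closure T = H) (hp : ∀ g ∈ T, g ^ p = 1) (x : H) : x ^ p ∈ commutator H := by
  let φ : H →* Abelianization H := (powMonoidHom p).comp Abelianization.of
  have h : (⊤ : Subgroup H) ≤ φ.ker := by
    subst hT
    rw [← Subgroup.closure_closure_coe_preimage (k := T), Subgroup.closure_le]
    intro y hy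
    have hy1 : y ^ p = 1 := Subtype.ext (hp _ hy)
    show (Abelianization.of y) ^ p = 1
    rw [← map_pow, hy1, map_one]
  have h2 := h (Subgroup.mem_top x)
  rw [MonoidHom.mem_ker] at h2
  rw [← Abelianization.ker_of, MonoidHom.mem_ker, map_pow]
  exact h2

theorem pow_mem_commutator_sylow {p : ℕ} [Fact p.Prime] {n : ℕ} (P : Sylow p (Perm (Fin n)))
    (x : (P : Subgroup (Perm (Fin n)))) : x ^ p ∈ commutator (P : Subgroup (Perm (Fin n))) := by
  obtain ⟨T, hT, hg⟩ := sylow_gen P
  exact pow_mem_commutator_of_gen hT (fun g h => (hg g h).1) x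

theorem isSwap_commute {n : ℕ} {P : Subgroup (Perm (Fin n))} (hP : IsPGroup 2 P)
    {s t : Perm (Fin n)} (hs : s ∈ P) (ht : t ∈ P) (hs' : s.IsSwap) (ht' : t.IsSwap) :
    s * t = t * s := by
  classical
  have : Fact (Nat.Prime 2) := ⟨Nat.prime_two⟩
  have h3 : ∀ {g : Perm (Fin n)}, g ∈ P → ¬ g.IsThreeCycle := by
    intro g hg h
    obtain ⟨k, hk⟩ := hP ⟨g, hg⟩
    have h1 : g ^ 2 ^ k = 1 := congrArg Subtype.val hk
    have h2 := orderOf_dvd_of_pow_eq_one h1
    rw [h.orderOf] at h2
    exact absurd (Nat.Prime.dvd_of_dvd_pow Nat.prime_three h2) (by norm_num)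
  obtain ⟨a, b, hab, rfl⟩ := hs'
  obtain ⟨c, d, hcd, rfl⟩ := ht'
  by_cases hac : a = c
  · subst hac
    by_cases hbd : b = d
    · subst hbd; rfl
    · exact absurd (Perm.isThreeCycle_swap_mul_swap_same hab hcd hbd) (h3 (P.mul_mem hs ht))
  by_cases had : a = d
  · subst had
    rw [Equiv.swap_comm c a] at ht ⊢
    by_cases hbc : b = c
    · subst hbc; rfl
    · exact absurd (Perm.isThreeCycle_swap_mul_swap_same hab hac hbc) (h3 (P.mul_mem hs ht))
  by_cases hbc : b = c
  · subst hbc
    rw [Equiv.swap_comm a b] at hs ⊢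
    exact absurd (Perm.isThreeCycle_swap_mul_swap_same hab.symm hcd had) (h3 (P.mul_mem hs ht))
  by_cases hbd : b = d
  · subst hbd
    rw [Equiv.swap_comm a b, Equiv.swap_comm c b] at *
    exact absurd (Perm.isThreeCycle_swap_mul_swap_same hab.symm hcd.symm hac) (h3 (P.mul_mem hs ht))
  refine Equiv.ext fun z => ?_
  simp only [Perm.mul_apply, Equiv.swap_apply_def]
  split_ifs <;> simp_all

theorem pow_mem_commutator_sylow_alt {p : ℕ} [hp : Fact p.Prime] {n : ℕ}
    (Q : Sylow p (alternatingGroup (Fin n)))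
    (x : (Q : Subgroup (alternatingGroup (Fin n)))) :
    x ^ p ∈ commutator (Q : Subgroup (alternatingGroup (Fin n))) := by
  classical
  let R : Subgroup (Perm (Fin n)) := (Q : Subgroup (alternatingGroup (Fin n))).map (alternatingGroup (Fin n)).subtype
  have hR : IsPGroup p R := Q.isPGroup'.map _
  obtain ⟨P, hRP⟩ := hR.exists_le_sylow
  have hRA : R = (P : Subgroup (Perm (Fin n))) ⊓ (alternatingGroup (Fin n)) := by
    refine le_antisymm (le_inf hRP (Subgroup.map_subtype_le _)) ?_
    have h1 : IsPGroup p (((P : Subgroup (Perm (Fin n))) ⊓ (alternatingGroup (Fin n))).subgroupOf (alternatingGroup (Fin n))) :=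
      (P.isPGroup'.to_le inf_le_left).comap_subtype
    have h2 := Q.is_maximal' h1 (fun q hq => Subgroup.mem_subgroupOf.mpr
      ⟨hRP ⟨q, hq, rfl⟩, q.2⟩)
    intro y hy
    refine ⟨⟨y, hy.2⟩, ?_, rfl⟩
    exact h2 ▸ (Subgroup.mem_subgroupOf.mpr hy : (⟨y, hy.2⟩ : (alternatingGroup (Fin n))) ∈ _)
  obtain ⟨T, hT, hg⟩ := sylow_gen P
  suffices ∃ U : Set (Perm (Fin n)), Subgroup.closure U = R ∧ ∀ g ∈ U, g ^ p = 1 by
    obtain ⟨U, hU, hU1⟩ := this
    refine pow_mem_commutator_of_gen (T := (alternatingGroup (Fin n)).subtype ⁻¹' U) ?_ (fun g h => Subtype.ext (hU1 _ h)) x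
    apply Subgroup.map_injective (alternatingGroup (Fin n)).subtype_injective
    rw [MonoidHom.map_closure, Set.image_preimage_eq_of_subset, hU]
    intro u hu
    have : u ∈ R := hU ▸ Subgroup.subset_closure hu
    exact ⟨⟨u, (hRA ▸ this : u ∈ (P : Subgroup (Perm (Fin n))) ⊓ (alternatingGroup (Fin n))).2⟩, rfl⟩
  by_cases hev : ∀ g ∈ T, Perm.sign g = 1
  · refine ⟨T, ?_, fun g h => (hg g h).1⟩
    rw [hRA, hT, eq_comm, inf_eq_left, ← hT, Subgroup.closure_le]
    exact fun g h => Perm.mem_alternatingGroup.mpr (hev g h)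
  push Not at hev
  obtain ⟨t, htT, ht1⟩ := hev
  have hp2 : p = 2 := by
    by_contra h
    have h1 := congrArg Perm.sign (hg t htT).1
    rw [map_pow, map_one, (Int.units_eq_one_or (Perm.sign t)).resolve_left ht1,
      (hp.out.odd_of_ne_two h).neg_one_pow] at h1
    exact absurd h1 (by decide)
  subst hp2
  have hswap : ∀ g ∈ T, Perm.sign g ≠ 1 → g.IsSwap := fun g h h1 =>
    ((hg g h).2 rfl).resolve_left h1
  have hTP : T ⊆ (P : Subgroup (Perm (Fin n))) := hT ▸ Subgroup.subset_closure
  have htP := hTP htT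
  have ht2 : t * t = 1 := by rw [← sq]; exact (hg t htT).1
  have hti : t⁻¹ = t := inv_eq_of_mul_eq_one_right ht2
  set U : Set (Perm (Fin n)) := {g | ∃ s ∈ T, (Perm.sign s = 1 ∧ (g = s ∨ g = t * s * t)) ∨
    (Perm.sign s ≠ 1 ∧ g = t * s)} with hU
  set K := Subgroup.closure U
  have hUconj : ∀ g ∈ U, t * g * t ∈ U := by
    rintro g ⟨s, hs, ⟨hse, rfl | rfl⟩ | ⟨hso, rfl⟩⟩
    · exact ⟨g, hs, Or.inl ⟨hse, Or.inr rfl⟩⟩
    · exact ⟨s, hs, Or.inl ⟨hse, Or.inl (by
        simp only [mul_assoc, ht2, mul_one]; rw [← mul_assoc, ht2, one_mul])⟩⟩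
    · refine ⟨s, hs, Or.inr ⟨hso, ?_⟩⟩
      rw [← mul_assoc, ht2, one_mul,
        isSwap_commute P.isPGroup' (hTP hs) htP (hswap s hs hso) (hswap t htT ht1)]
  have hKconj : ∀ k ∈ K, t * k * t ∈ K := fun k hk => by
    have h := Subgroup.mem_map_of_mem (MulAut.conj t).toMonoidHom hk
    rw [MonoidHom.map_closure] at h
    have h2 : t * k * t⁻¹ ∈ K := Subgroup.closure_mono (by
      rintro _ ⟨g, hg', rfl⟩
      show t * g * t⁻¹ ∈ U
      rw [hti]; exact hUconj g hg') h
    rwa [hti] at h2
  let L : Subgroup (Perm (Fin n)) :=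
    { carrier := {g | g ∈ K ∨ t * g ∈ K}
      one_mem' := Or.inl K.one_mem
      mul_mem' := by
        rintro a b (ha | ha) (hb | hb)
        · exact Or.inl (K.mul_mem ha hb)
        · refine Or.inr ?_
          have := K.mul_mem (hKconj a ha) hb
          simpa [mul_assoc, ← mul_assoc t t, ht2] using this
        · exact Or.inr (by rw [← mul_assoc]; exact K.mul_mem ha hb)
        · refine Or.inl ?_
          have := K.mul_mem (hKconj _ ha) hb
          simpa [mul_assoc, ← mul_assoc t t, ht2] using this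
      inv_mem' := by
        rintro a (ha | ha)
        · exact Or.inl (K.inv_mem ha)
        · refine Or.inr ?_
          have := hKconj _ (K.inv_mem ha)
          simpa [mul_assoc, hti, ht2] using this }
  have hPL : (P : Subgroup (Perm (Fin n))) ≤ L := by
    rw [← hT, Subgroup.closure_le]
    intro g hgT
    by_cases h : Perm.sign g = 1
    · exact Or.inl (Subgroup.subset_closure ⟨g, hgT, Or.inl ⟨h, Or.inl rfl⟩⟩)
    · exact Or.inr (Subgroup.subset_closure ⟨g, hgT, Or.inr ⟨h, rfl⟩⟩)
  have htodd : Perm.sign t = -1 := (Int.units_eq_one_or _).resolve_left ht1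
  have hKR : K ≤ R := by
    rw [hRA, Subgroup.closure_le]
    rintro g ⟨s, hs, ⟨hse, rfl | rfl⟩ | ⟨hso, rfl⟩⟩
    · exact ⟨hTP hs, Perm.mem_alternatingGroup.mpr hse⟩
    · exact ⟨mul_mem (mul_mem htP (hTP hs)) htP, Perm.mem_alternatingGroup.mpr (by
        simp [hse, htodd])⟩
    · exact ⟨mul_mem htP (hTP hs), Perm.mem_alternatingGroup.mpr (by
        simp [(Int.units_eq_one_or _).resolve_left hso, htodd])⟩
  refine ⟨U, le_antisymm hKR fun g hgR => ?_, ?_⟩
  · obtain ⟨hgP, hgA⟩ := (hRA ▸ hgR : g ∈ (P : Subgroup (Perm (Fin n))) ⊓ (alternatingGroup (Fin n)))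
    rcases hPL hgP with h | h
    · exact h
    · have h2 := Perm.mem_alternatingGroup.mp ((hRA ▸ hKR h :
        t * g ∈ (P : Subgroup (Perm (Fin n))) ⊓ (alternatingGroup (Fin n)))).2
      rw [map_mul, Perm.mem_alternatingGroup.mp hgA, htodd] at h2
      exact absurd h2 (by decide)
  · rintro g ⟨s, hs, ⟨hse, rfl | rfl⟩ | ⟨hso, rfl⟩⟩
    · exact (hg g hs).1
    · have h1 : s * s = 1 := by rw [← sq]; exact (hg s hs).1
      rw [sq]
      simp [mul_assoc, ← mul_assoc t t, ← mul_assoc s s, ht2, h1]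
    · have h1 : s * s = 1 := by rw [← sq]; exact (hg s hs).1
      rw [sq, mul_assoc t s, ← mul_assoc s t,
        isSwap_commute P.isPGroup' (hTP hs) htP (hswap s hs hso) (hswap t htT ht1),
        mul_assoc t s, h1, mul_one, ht2]

end CfsgLib.SymSylow
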