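import Cfsg.Agent.Lib.SymSylow.Gen
import Mathlib

/-!
# Commutative Sylow subgroups of alternating groups
-/

set_option autoImplicit false

namespace CfsgLib.SymSylow

open Equiv

theorem two_vec_moved : (![1, 0, 1] : Fin 3 → ZMod 2) ((Equiv.swap (0 : Fin 3) 1).symm 0) ≠
    (![1, 0, 1] : Fin 3 → ZMod 2) 0 := by decide

theorem two_vec_even :
    ∏ i : Fin 3, Perm.sign (Equiv.addRight ((![1, 0, 1] : Fin 3 → ZMod 2) i)) = 1 := by decide

variable {p m r : ℕ} [hp : Fact p.Prime]

theorem isPGroup_range_shift : IsPGroup p (shift p m r).range := by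
  have : NeZero p := ⟨hp.out.ne_zero⟩
  rintro ⟨_, a, rfl⟩
  refine ⟨1, Subtype.ext ?_⟩
  rw [pow_one, SubmonoidClass.coe_pow, ← map_pow, OneMemClass.coe_one]
  suffices a ^ p = 1 by rw [this, map_one]
  apply Multiplicative.toAdd.injective
  funext k
  simp [toAdd_pow]

theorem isPGroup_shift_sup (w : Perm (Fin m)) (hw : w ^ p = 1) :
    IsPGroup p ((shift p m r).range ⊔ Subgroup.zpowers (lift p m r w) :
      Subgroup (Perm (Blocks p m r))) := by
  have : NeZero p := ⟨hp.out.ne_zero⟩
  refine isPGroup_range_shift.to_sup_of_normal_left' ?_ ?_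
  · rintro ⟨_, z, rfl⟩
    refine ⟨1, Subtype.ext ?_⟩
    simp only [pow_one, SubmonoidClass.coe_pow, OneMemClass.coe_one]
    rw [← zpow_natCast, ← zpow_mul, mul_comm, zpow_mul, zpow_natCast, ← map_pow, hw, map_one,
      one_zpow]
  · rw [Subgroup.zpowers_le, Subgroup.mem_normalizer_iff]
    intro g
    constructor
    · rintro ⟨a, rfl⟩
      refine ⟨Multiplicative.ofAdd fun i => a.toAdd (w.symm i), ?_⟩
      rw [lift_mul_shift, mul_inv_cancel_right]
    · rintro ⟨a, ha⟩
      refine ⟨Multiplicative.ofAdd fun i => a.toAdd (w i), ?_⟩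
      have h := lift_mul_shift p m r w (Multiplicative.ofAdd fun i => a.toAdd (w i))
      simp only [toAdd_ofAdd, Equiv.apply_symm_apply, ofAdd_toAdd] at h
      rw [ha] at h
      rw [inv_mul_cancel_right] at h
      exact mul_left_cancel h

theorem sign_lift (w : Perm (Fin m)) [NeZero p] :
    Perm.sign (lift p m r w) = Perm.sign w ^ p := by
  show Perm.sign (Equiv.sumCongr (Equiv.prodCongrLeft fun _ : ZMod p => w) (Equiv.refl _)) = _
  rw [Perm.sign_sumCongr, Perm.sign_prodCongrLeft, Perm.sign_refl, mul_one, Finset.prod_const,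
    Finset.card_univ, ZMod.card]

theorem sign_shift [NeZero p] (a : Multiplicative (Fin m → ZMod p)) :
    Perm.sign (shift p m r a) = ∏ i, Perm.sign (Equiv.addRight (a.toAdd i)) := by
  have h : shift p m r a =
      Equiv.sumCongr (Equiv.prodCongrRight fun i => Equiv.addRight (a.toAdd i)) (Equiv.refl _) := by
    ext x; rcases x with ⟨i, j⟩ | s <;> simp [shift]
  rw [h, Perm.sign_sumCongr, Perm.sign_prodCongrRight, Perm.sign_refl, mul_one]

theorem sign_eq_one_of_odd {X : Type*} [Fintype X] [DecidableEq X] (g : Perm X) {k : ℕ}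
    (hk : Odd k) (hg : g ^ k = 1) : Perm.sign g = 1 := by
  rcases Int.units_eq_one_or (Perm.sign g) with h | h
  · exact h
  · have h1 := congrArg Perm.sign hg
    rw [map_pow, map_one, h, hk.neg_one_pow] at h1
    exact absurd h1 (by decide)

theorem isPGroup_comap {G : Type*} [Group G] {H : Subgroup G} {P : Subgroup G}
    (hP : IsPGroup p P) : IsPGroup p (P.subgroupOf H) := hP.comap_subtype

theorem isMulCommutative_sylow_congr {G : Type*} [Group G] [Finite G] (P Q : Sylow p G)
    (h : IsMulCommutative Q) : IsMulCommutative P := by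
  obtain ⟨c, hc⟩ := MulAction.exists_smul_eq G P Q
  refine ⟨⟨fun a b => Subtype.ext ?_⟩⟩
  have hm : ∀ x ∈ (P : Subgroup G), c * x * c⁻¹ ∈ (Q : Subgroup G) := fun x hx => by
    rw [← hc, Sylow.coe_subgroup_smul]
    exact Subgroup.mem_pointwise_smul_iff_inv_smul_mem.2 (by simpa [mul_assoc] using hx)
  have h1 := congrArg Subtype.val (h.is_comm.comm (⟨_, hm a a.2⟩ : Q) ⟨_, hm b b.2⟩)
  simp only [Subgroup.coe_mul] at h1
  have h2 : c * ((a : G) * b) * c⁻¹ = c * ((b : G) * a) * c⁻¹ := by
    refine Eq.trans ?_ (h1.trans ?_) <;> group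
  exact mul_left_cancel (mul_right_cancel h2)

theorem exists_noncomm_even (hm : p * m + r = Fintype.card (Blocks p m r)) (h2 : p = 2 → m = 3)
    (hodd : p ≠ 2 → m = p) :
    ∃ (P : Subgroup (Perm (Blocks p m r))) (_ : IsPGroup p P) (a b : Perm (Blocks p m r)),
      a ∈ P ∧ b ∈ P ∧ Perm.sign a = 1 ∧ Perm.sign b = 1 ∧ a * b ≠ b * a := by
  have : NeZero p := ⟨hp.out.ne_zero⟩
  obtain ⟨w, hw, i, a, hne, hsa, hsw⟩ : ∃ (w : Perm (Fin m)) (_ : w ^ p = 1) (i : Fin m)
      (a : Multiplicative (Fin m → ZMod p)), a.toAdd (w.symm i) ≠ a.toAdd i ∧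
      Perm.sign (shift p m r a) = 1 ∧ Perm.sign (lift p m r w) = 1 := by
    by_cases hp2 : p = 2
    · obtain rfl := h2 hp2
      subst hp2
      refine ⟨Equiv.swap 0 1, by rw [sq]; exact Equiv.swap_mul_self _ _, 0,
        Multiplicative.ofAdd ![1, 0, 1], ?_, ?_, ?_⟩
      · exact two_vec_moved
      · rw [sign_shift]
        convert two_vec_even using 3
        rfl
      · rw [sign_lift]; simp
    · obtain rfl := (hodd hp2).symm
      have hpo : Odd p := hp.out.odd_of_ne_two hp2
      let e : ZMod p ≃ Fin p := Fintype.equivFinOfCardEq (ZMod.card p)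
      let w : Perm (Fin p) := e.permCongr (Equiv.addRight 1)
      have hw : w ^ p = 1 := by
        have h : (Equiv.addRight (1 : ZMod p)) ^ p = 1 := by
          ext x
          rw [Equiv.Perm.coe_pow]
          simp
        show (e.permCongrHom (Equiv.addRight 1)) ^ p = 1
        rw [← map_pow, h, map_one]
      refine ⟨w, hw, e 0, Multiplicative.ofAdd (Pi.single (e 0) 1), ?_, ?_, ?_⟩
      · have hw0 : w.symm (e 0) ≠ e 0 := by
          intro h
          rw [Equiv.symm_apply_eq] at h
          have : (1 : ZMod p) = 0 := by simpa [w] using h.symm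
          exact one_ne_zero this
        simp [Pi.single_apply, hw0]
      · refine sign_eq_one_of_odd _ hpo ?_
        rw [← map_pow]
        refine (congrArg _ ?_).trans (map_one _)
        apply Multiplicative.toAdd.injective
        funext k
        simp [toAdd_pow]
      · exact sign_eq_one_of_odd _ hpo (by rw [← map_pow, hw, map_one])
  refine ⟨_, isPGroup_shift_sup w hw, shift p m r a, lift p m r w,
    Subgroup.mem_sup_left ⟨a, rfl⟩, Subgroup.mem_sup_right (Subgroup.mem_zpowers _), hsa, hsw,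
    fun h => hne ?_⟩
  have h1 := h.trans (lift_mul_shift p m r w a)
  obtain ⟨h2, -⟩ := pair_injective p m r h1
  exact (congrFun (congrArg Multiplicative.toAdd h2) i).symm

theorem card_range_shift [NeZero p] : Nat.card (shift p m r).range = p ^ m := by
  rw [← Nat.card_congr (MonoidHom.ofInjective (f := shift p m r) fun a b h =>
    (pair_injective p m r (v := 1) (w := 1) (by rw [h])).1).toEquiv]
  simp [Nat.card_pi]

theorem isMulCommutative_sylow_perm {n : ℕ} (hn : n < p ^ 2) (P : Sylow p (Perm (Fin n))) :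
    IsMulCommutative P := by
  have : NeZero p := ⟨hp.out.ne_zero⟩
  let e : Blocks p (n / p) (n % p) ≃ Fin n := Fintype.equivFinOfCardEq (by
    simp only [Fintype.card_sum, Fintype.card_prod, Fintype.card_fin, ZMod.card]
    exact Nat.div_add_mod' n p)
  let f : Multiplicative (Fin (n / p) → ZMod p) →* Perm (Fin n) :=
    e.permCongrHom.toMonoidHom.comp (shift p (n / p) (n % p))
  have hcard : Nat.card f.range = p ^ (Nat.card (Perm (Fin n))).factorization p := by
    rw [MonoidHom.range_comp, Subgroup.card_map_of_injective e.permCongrHom.injective,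
      card_range_shift, Nat.card_eq_fintype_card, Fintype.card_perm, Fintype.card_fin,
      Nat.factorization_def _ hp.out]
    congr 1
    rw [← padicValNat_mul_div_factorial n, padicValNat_factorial_mul,
      padicValNat.eq_zero_of_not_dvd]
    · ring
    · rw [hp.out.dvd_factorial, not_le, Nat.div_lt_iff_lt_mul hp.out.pos]
      rw [sq] at hn
      exact hn
  refine isMulCommutative_sylow_congr P (Sylow.ofCard f.range hcard) ⟨⟨?_⟩⟩
  rintro ⟨_, a, rfl⟩ ⟨_, b, rfl⟩
  refine Subtype.ext ?_
  change f a * f b = f b * f a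
  rw [← map_mul, ← map_mul, mul_comm]

theorem isMulCommutative_sylow_alternating_iff {n : ℕ} (hn : 6 ≤ n)
    (S : Sylow p (alternatingGroup (Fin n))) : IsMulCommutative S ↔ n < p ^ 2 := by
  have : NeZero p := ⟨hp.out.ne_zero⟩
  constructor
  · intro hS
    by_contra hnp
    push Not at hnp
    obtain ⟨m, r, h2, hodd, hm⟩ : ∃ m r, (p = 2 → m = 3) ∧ (p ≠ 2 → m = p) ∧ p * m + r = n := by
      by_cases hp2 : p = 2
      · exact ⟨3, n - 6, fun _ => rfl, fun h => absurd hp2 h, by subst hp2; omega⟩
      · refine ⟨p, n - p ^ 2, fun h => absurd h hp2, fun _ => rfl, ?_⟩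
        rw [← sq]; omega
    have hc : Fintype.card (Blocks p m r) = n := by
      simp only [Fintype.card_sum, Fintype.card_prod, Fintype.card_fin, ZMod.card, mul_comm m p, hm]
    obtain ⟨P, hP, a, b, ha, hb, hsa, hsb, hab⟩ :=
      exists_noncomm_even (p := p) (m := m) (r := r) (hm.trans hc.symm) h2 hodd
    let e : Blocks p m r ≃ Fin n := Fintype.equivFinOfCardEq hc
    let Q : Subgroup (alternatingGroup (Fin n)) :=
      (P.map e.permCongrHom.toMonoidHom).subgroupOf (alternatingGroup (Fin n))
    obtain ⟨T, hQT⟩ := (isPGroup_comap (hP.map e.permCongrHom.toMonoidHom)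
      (H := alternatingGroup (Fin n))).exists_le_sylow
    have hT := isMulCommutative_sylow_congr T S hS
    have hmem : ∀ x ∈ P, Perm.sign x = 1 → ∃ y : T, ((y : alternatingGroup (Fin n)) : Perm (Fin n)) =
        e.permCongrHom x := fun x hx hs =>
      ⟨⟨⟨e.permCongrHom x, Perm.mem_alternatingGroup.2 ((Perm.sign_permCongr e x).trans hs)⟩,
        hQT (Subgroup.mem_subgroupOf.2 (Subgroup.mem_map_of_mem _ hx))⟩, rfl⟩
    obtain ⟨y, hy⟩ := hmem a ha hsa
    obtain ⟨z, hz⟩ := hmem b hb hsb
    apply hab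
    apply e.permCongrHom.injective
    rw [map_mul, map_mul, ← hy, ← hz]
    exact congrArg (fun t : T => ((t : alternatingGroup (Fin n)) : Perm (Fin n)))
      (hT.is_comm.comm y z)
  · intro hnp
    obtain ⟨T, hST⟩ := (S.2.map (alternatingGroup (Fin n)).subtype).exists_le_sylow
    have hT := isMulCommutative_sylow_perm hnp T
    refine ⟨⟨fun a b => Subtype.ext (Subtype.ext ?_)⟩⟩
    have h := congrArg Subtype.val (hT.is_comm.comm
      (⟨_, hST ⟨_, a.2, rfl⟩⟩ : T) ⟨_, hST ⟨_, b.2, rfl⟩⟩)
    simpa using h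

end CfsgLib.SymSylow
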