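/-
An abelian non-cyclic Sylow subgroup of an alternating group admits an even automizer.
-/
import Cfsg.Agent.Lib.SymSylow.AltAbelian

set_option autoImplicit false

namespace CfsgLib.SymSylow.AltInversion

open Equiv
open scoped Pointwise

variable {p m r : ℕ}

/-- The inversion of every block. -/
def negBlocks : Perm (Blocks p m r) :=
  Equiv.sumCongr (Equiv.prodCongrRight fun _ => Equiv.neg (ZMod p)) (Equiv.refl _)

theorem negBlocks_sq : negBlocks (p := p) (m := m) (r := r) * negBlocks = 1 := by
  ext x; rcases x with ⟨i, j⟩ | s <;> simp [negBlocks]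

theorem negBlocks_comm_lift (w : Perm (Fin m)) :
    negBlocks * lift p m r w = lift p m r w * negBlocks := by
  ext x; rcases x with ⟨i, j⟩ | s <;> simp [negBlocks, lift]

theorem negBlocks_mul_shift (a : Multiplicative (Fin m → ZMod p)) :
    negBlocks * shift p m r a = shift p m r a⁻¹ * negBlocks := by
  ext x; rcases x with ⟨i, j⟩ | s <;> simp [negBlocks, shift, add_comm]

/-- An even involution normalising but not centralising the translation group. -/
theorem exists_even_inverting [Fact p.Prime] (hp : p ≠ 2) (hm : 2 ≤ m) :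
    ∃ g : Perm (Blocks p m r), g * g = 1 ∧ Perm.sign g = 1 ∧
      (∀ a, ∃ b, g * shift p m r a * g = shift p m r b) ∧
      ∃ a, g * shift p m r a * g ≠ shift p m r a := by
  have hpp : p.Prime := Fact.out
  have hpo : Odd p := hpp.odd_of_ne_two hp
  have : NeZero p := ⟨hpp.ne_zero⟩
  have hsh : ∀ a b, shift p m r a = shift p m r b → a = b := fun a b h =>
    (pair_injective p m r (v := 1) (w := 1) (by rw [h])).1
  let i0 : Fin m := ⟨0, by omega⟩
  let i1 : Fin m := ⟨1, by omega⟩
  have h01 : i0 ≠ i1 := by simp [i0, i1, Fin.ext_iff]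
  let e0 : Multiplicative (Fin m → ZMod p) := Multiplicative.ofAdd (Pi.single i0 1)
  have hinv : ∀ a, negBlocks * shift p m r a * negBlocks = shift p m r a⁻¹ := fun a => by
    rw [negBlocks_mul_shift, mul_assoc, negBlocks_sq, mul_one]
  rcases Int.units_eq_one_or (Perm.sign (negBlocks (p := p) (m := m) (r := r))) with hs | hs
  · refine ⟨negBlocks, negBlocks_sq, hs, fun a => ⟨a⁻¹, hinv a⟩, e0, ?_⟩
    rw [hinv]
    intro h
    have h' := congrFun (congrArg Multiplicative.toAdd (hsh _ _ h)) i0
    simp [e0] at h'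
    have h2 : ((2 : ℕ) : ZMod p) = 0 := by push_cast; linear_combination -h'
    rw [ZMod.natCast_eq_zero_iff] at h2
    exact hp ((Nat.prime_dvd_prime_iff_eq hpp Nat.prime_two).1 h2)
  · set σ : Perm (Fin m) := Equiv.swap i0 i1 with hσ
    set L := lift p m r σ with hL
    have hLL : L * L = 1 := by rw [hL, ← map_mul, Equiv.swap_mul_self, map_one]
    have hact : ∀ a, (negBlocks * L) * shift p m r a * (negBlocks * L) =
        shift p m r (Multiplicative.ofAdd fun i => a.toAdd (σ.symm i))⁻¹ := by
      intro a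
      calc (negBlocks * L) * shift p m r a * (negBlocks * L)
          = negBlocks * (L * shift p m r a) * (negBlocks * L) := by group
        _ = negBlocks * (shift p m r (Multiplicative.ofAdd fun i => a.toAdd (σ.symm i)) * L) * (L * negBlocks) := by
            rw [hL, lift_mul_shift, negBlocks_comm_lift]
        _ = negBlocks * shift p m r (Multiplicative.ofAdd fun i => a.toAdd (σ.symm i)) * (L * L) * negBlocks := by
            group
        _ = _ := by rw [hLL, mul_one, hinv]
    refine ⟨negBlocks * L, ?_, ?_, fun a => ⟨_, hact a⟩, e0, ?_⟩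
    · calc (negBlocks * L) * (negBlocks * L) = (negBlocks * L) * (L * negBlocks) := by
            conv_lhs => arg 2; rw [hL, negBlocks_comm_lift]
        _ = 1 := by rw [mul_assoc, ← mul_assoc L, hLL, one_mul, negBlocks_sq]
    · rw [map_mul, hs, hL, sign_lift, Equiv.Perm.sign_swap h01, hpo.neg_one_pow]
      rfl
    · rw [hact]
      intro h
      have h' := congrFun (congrArg Multiplicative.toAdd (hsh _ _ h)) i1
      simp [e0, hσ, h01.symm] at h'

/-- The centraliser is normal in the normaliser. -/
theorem two_dvd_automizer {G : Type*} [Group G] (Q : Subgroup G) (g : G) (hg2 : g * g = 1)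
    (hgN : g ∈ Subgroup.normalizer (Q : Set G)) (hgC : g ∉ Subgroup.centralizer (Q : Set G)) :
    2 ∣ ((Subgroup.centralizer (Q : Set G)).subgroupOf (Subgroup.normalizer (Q : Set G))).index := by
  set N := Subgroup.normalizer (Q : Set G)
  set C := (Subgroup.centralizer (Q : Set G)).subgroupOf N
  have : C.Normal := by
    constructor
    intro c hc n
    rw [Subgroup.mem_subgroupOf, Subgroup.mem_centralizer_iff] at hc ⊢
    intro q hq
    have hq' : (n : G)⁻¹ * q * n ∈ Q := by
      have := (Subgroup.mem_normalizer_iff.1 (inv_mem n.2) q).1 hq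
      simpa using this
    have h := hc _ hq'
    push_cast
    calc q * ((n : G) * c * (n : G)⁻¹) = n * (((n : G)⁻¹ * q * n) * c) * (n : G)⁻¹ := by group
      _ = n * (c * ((n : G)⁻¹ * q * n)) * (n : G)⁻¹ := by rw [h]
      _ = _ := by group
  have hord : orderOf (QuotientGroup.mk (⟨g, hgN⟩ : N) : N ⧸ C) = 2 := by
    apply orderOf_eq_prime
    · rw [← QuotientGroup.mk_pow, QuotientGroup.eq_one_iff]
      have : (⟨g, hgN⟩ : N) ^ 2 = 1 := Subtype.ext (by rw [pow_two]; exact hg2)
      rw [this]
      exact one_mem _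
    · intro h
      rw [QuotientGroup.eq_one_iff, Subgroup.mem_subgroupOf] at h
      exact hgC h
  rw [Subgroup.index, ← hord]
  exact orderOf_dvd_natCard _

/-- Existence of an involution in the normaliser, outside the centraliser. -/
theorem exists_inverting_sylow {n : ℕ} [hp : Fact p.Prime] (hp2 : p ≠ 2) (hn : n < p ^ 2) (h2p : 2 * p ≤ n)
    (P : Sylow p (alternatingGroup (Fin n))) :
    ∃ g : alternatingGroup (Fin n), g * g = 1 ∧
      g ∈ Subgroup.normalizer ((P : Subgroup (alternatingGroup (Fin n))) : Set (alternatingGroup (Fin n))) ∧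
      g ∉ Subgroup.centralizer ((P : Subgroup (alternatingGroup (Fin n))) : Set (alternatingGroup (Fin n))) := by
  classical
  have : NeZero p := ⟨hp.out.ne_zero⟩
  have hodd : Odd p := hp.out.odd_of_ne_two hp2
  have hm2 : 2 ≤ n / p := (Nat.le_div_iff_mul_le hp.out.pos).2 h2p
  obtain ⟨g, hg2, hgs, hgN, a₀, ha₀⟩ := exists_even_inverting (m := n / p) (r := n % p) hp2 hm2
  let e : Blocks p (n / p) (n % p) ≃ Fin n := Fintype.equivFinOfCardEq (by
    simp only [Fintype.card_sum, Fintype.card_prod, Fintype.card_fin, ZMod.card]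
    exact Nat.div_add_mod' n p)
  let f : Multiplicative (Fin (n / p) → ZMod p) →* Perm (Fin n) :=
    e.permCongrHom.toMonoidHom.comp (shift p (n / p) (n % p))
  have hfA : ∀ a, f a ∈ alternatingGroup (Fin n) := fun a => Perm.mem_alternatingGroup.2
    (sign_eq_one_of_odd _ hodd (by
      rw [← map_pow]
      have : a ^ p = 1 := by
        apply Multiplicative.toAdd.injective
        funext k
        simp [toAdd_pow]
      rw [this, map_one]))
  let f' := f.codRestrict (alternatingGroup (Fin n)) hfA
  have hinj : Function.Injective f' := by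
    intro a b h
    have h' : f a = f b := congrArg Subtype.val h
    exact (pair_injective p (n / p) (n % p) (v := 1) (w := 1) (by rw [e.permCongrHom.injective h'])).1
  have hcard : Nat.card f'.range = p ^ (Nat.card (alternatingGroup (Fin n))).factorization p := by
    have : Nontrivial (Fin n) := Fin.nontrivial_iff_two_le.2 (le_trans (by have := hp.out.two_le; omega) h2p)
    rw [← Nat.card_congr (MonoidHom.ofInjective hinj).toEquiv]
    have hA : 2 * Nat.card (alternatingGroup (Fin n)) = n.factorial := by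
      rw [two_mul_nat_card_alternatingGroup, Nat.card_eq_fintype_card, Fintype.card_perm, Fintype.card_fin]
    have hfac : (Nat.card (alternatingGroup (Fin n))).factorization p = n / p := by
      have h := congrArg (fun k => k.factorization p) hA
      simp only [Nat.factorization_mul (two_ne_zero) (Nat.card_pos).ne'] at h
      rw [Finsupp.add_apply, Nat.Prime.factorization Nat.prime_two, Finsupp.single_eq_of_ne hp2, zero_add] at h
      rw [h, Nat.factorization_def _ hp.out, ← padicValNat_mul_div_factorial n, padicValNat_factorial_mul,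
        padicValNat.eq_zero_of_not_dvd]
      · ring
      · rw [hp.out.dvd_factorial, not_le, Nat.div_lt_iff_lt_mul hp.out.pos]
        rw [sq] at hn
        exact hn
    rw [hfac]
    simp [Nat.card_pi]
  let T : Sylow p (alternatingGroup (Fin n)) := Sylow.ofCard f'.range hcard
  obtain ⟨c, hc⟩ := MulAction.exists_smul_eq (alternatingGroup (Fin n)) T P
  have hgA : e.permCongrHom g ∈ alternatingGroup (Fin n) :=
    Perm.mem_alternatingGroup.2 ((Perm.sign_permCongr e g).trans hgs)
  set γ : alternatingGroup (Fin n) := ⟨e.permCongrHom g, hgA⟩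
  have hγ2 : γ * γ = 1 := Subtype.ext (by
    show e.permCongrHom g * e.permCongrHom g = 1
    rw [← map_mul, hg2, map_one])
  have hγi : γ⁻¹ = γ := inv_eq_of_mul_eq_one_right hγ2
  have hconj : ∀ a, ∃ b, γ * f' a * γ = f' b := fun a => by
    obtain ⟨b, hb⟩ := hgN a
    exact ⟨b, Subtype.ext (by
      show e.permCongrHom g * e.permCongrHom _ * e.permCongrHom g = e.permCongrHom _
      rw [← map_mul, ← map_mul, hb])⟩
  have hP : ∀ z, z ∈ (P : Subgroup (alternatingGroup (Fin n))) ↔ ∃ a, c * f' a * c⁻¹ = z := by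
    intro z
    rw [← hc, Sylow.coe_subgroup_smul, Subgroup.mem_pointwise_smul_iff_inv_smul_mem]
    show c⁻¹ * z * c⁻¹⁻¹ ∈ f'.range ↔ _
    rw [MonoidHom.mem_range]
    constructor
    · rintro ⟨a, ha⟩; exact ⟨a, by rw [ha]; group⟩
    · rintro ⟨a, rfl⟩; exact ⟨a, by group⟩
  have hsq : (c * γ * c⁻¹) * (c * γ * c⁻¹) = 1 := by
    calc (c * γ * c⁻¹) * (c * γ * c⁻¹) = c * (γ * γ) * c⁻¹ := by group
      _ = 1 := by rw [hγ2]; group
  refine ⟨c * γ * c⁻¹, hsq, ?_, ?_⟩
  · rw [Subgroup.mem_normalizer_iff]
    have key : ∀ z ∈ (P : Subgroup (alternatingGroup (Fin n))),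
        (c * γ * c⁻¹) * z * (c * γ * c⁻¹)⁻¹ ∈ (P : Subgroup (alternatingGroup (Fin n))) := by
      intro z hz
      obtain ⟨a, rfl⟩ := (hP z).1 hz
      obtain ⟨b, hb⟩ := hconj a
      refine (hP _).2 ⟨b, ?_⟩
      rw [← hb]
      calc c * (γ * f' a * γ) * c⁻¹ = c * (γ * f' a * γ⁻¹) * c⁻¹ := by rw [hγi]
        _ = _ := by group
    intro z
    refine ⟨key z, fun hz => ?_⟩
    have := key _ hz
    rwa [show (c * γ * c⁻¹) * ((c * γ * c⁻¹) * z * (c * γ * c⁻¹)⁻¹) * (c * γ * c⁻¹)⁻¹ =
      ((c * γ * c⁻¹) * (c * γ * c⁻¹)) * z * ((c * γ * c⁻¹) * (c * γ * c⁻¹))⁻¹ by group, hsq, one_mul, inv_one,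
      mul_one] at this
  · intro hC
    apply ha₀
    have h := Subgroup.mem_centralizer_iff.1 hC _ ((hP (c * f' a₀ * c⁻¹)).2 ⟨a₀, rfl⟩)
    have h' : f' a₀ * γ = γ * f' a₀ := by
      have := congrArg (fun z => c⁻¹ * z * c) h
      simpa [mul_assoc] using this
    have h'' : γ * f' a₀ * γ = f' a₀ := by rw [← h', mul_assoc, hγ2, mul_one]
    apply e.permCongrHom.injective
    rw [map_mul, map_mul]
    exact congrArg Subtype.val h''

theorem isCyclic_of_lt {n : ℕ} [hp : Fact p.Prime] (h2p : n < 2 * p)
    (P : Sylow p (alternatingGroup (Fin n))) : IsCyclic (P : Subgroup (alternatingGroup (Fin n))) := by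
  have hdvd : Nat.card (P : Subgroup (alternatingGroup (Fin n))) ∣ n.factorial := by
    refine (Subgroup.card_subgroup_dvd_card _).trans ((Subgroup.card_subgroup_dvd_card _).trans ?_)
    rw [Nat.card_eq_fintype_card, Fintype.card_perm, Fintype.card_fin]
  obtain ⟨k, hk⟩ := IsPGroup.iff_card.1 P.2
  rw [hk] at hdvd
  have hk1 : k ≤ 1 := by
    rcases Nat.eq_zero_or_pos n with rfl | hn
    · have := Nat.le_of_dvd (by simp) hdvd
      by_contra hlt
      have : p ^ 1 ≤ p ^ k := Nat.pow_le_pow_right hp.out.pos (by omega)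
      have := hp.out.two_le
      simp at *
      omega
    have h := (padicValNat_dvd_iff_le (p := p) (Nat.factorial_ne_zero n)).1 hdvd
    rw [← padicValNat_mul_div_factorial n, padicValNat_factorial_mul, padicValNat.eq_zero_of_not_dvd] at h
    · have : n / p ≤ 1 := Nat.lt_succ_iff.1 ((Nat.div_lt_iff_lt_mul hp.out.pos).2 (by omega))
      omega
    · rw [hp.out.dvd_factorial, not_le, Nat.div_lt_iff_lt_mul hp.out.pos]
      have : 2 * p ≤ p * p := Nat.mul_le_mul_right p hp.out.two_le
      omega
  rcases Nat.le_one_iff_eq_zero_or_eq_one.1 hk1 with rfl | rfl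
  · rw [pow_zero, Subgroup.card_eq_one] at hk
    rw [hk]
    infer_instance
  · exact isCyclic_of_prime_card (by rw [hk, pow_one])

end CfsgLib.SymSylow.AltInversion
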