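import Cfsg.Agent.Lib.Known.AltAutPreserve
import Cfsg.Agent.Lib.SymSylow.AltAbelian

/-!
For `n ≥ 5`, odd Sylow subgroups of subgroups of `Aut(A_n)` are commutative when `n < r ^ 2`;
consequently a prime graph non-edge `p q` forces an abelian Sylow `p`- or `q`-subgroup.
-/

set_option autoImplicit false

namespace CfsgLib.SymSylow.AutAlt

open Equiv Equiv.Perm

theorem three_class_six (φ : alternatingGroup (Fin 6) ≃* alternatingGroup (Fin 6))
    {z : alternatingGroup (Fin 6)} (hz : (z : Perm (Fin 6)).IsThreeCycle) :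
    (φ (φ z) : Perm (Fin 6)).IsThreeCycle := by
  classical
  let T : Finset (alternatingGroup (Fin 6)) :=
    Finset.univ.filter fun g => (g : Perm (Fin 6)).cycleType = {3}
  let D : Finset (alternatingGroup (Fin 6)) :=
    Finset.univ.filter fun g => (g : Perm (Fin 6)).cycleType = {3, 3}
  have hcard : ∀ m : Multiset ℕ, m = {3} ∨ m = {3, 3} →
      (Finset.univ.filter fun g : alternatingGroup (Fin 6) =>
        (g : Perm (Fin 6)).cycleType = m).card = 40 := by
    rintro m (rfl | rfl) <;> rw [AlternatingGroup.card_of_cycleType] <;> rfl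
  -- elements of order three
  have hmem : ∀ g : alternatingGroup (Fin 6), orderOf g = 3 → g ∈ T ∨ g ∈ D := by
    intro g hg
    rw [← Subgroup.orderOf_coe] at hg
    obtain ⟨k, hk⟩ := cycleType_prime_order (σ := (g : Perm (Fin 6))) (by rw [hg]; decide)
    rw [hg] at hk
    have hle := sum_cycleType_le (g : Perm (Fin 6))
    rw [hk, Multiset.sum_replicate, Fintype.card_fin, smul_eq_mul] at hle
    obtain rfl | rfl : k = 0 ∨ k = 1 := by omega
    · exact Or.inl (Finset.mem_filter.2 ⟨Finset.mem_univ _, hk⟩)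
    · exact Or.inr (Finset.mem_filter.2 ⟨Finset.mem_univ _, hk⟩)
  have hord : ∀ g ∈ T ∪ D, orderOf g = 3 := by
    intro g hg
    rw [← Subgroup.orderOf_coe, ← lcm_cycleType]
    rcases Finset.mem_union.1 hg with h | h <;> rw [(Finset.mem_filter.1 h).2] <;> rfl
  have hzT : z ∈ T := Finset.mem_filter.2 ⟨Finset.mem_univ _, hz⟩
  by_cases h : ∃ a ∈ T, φ a ∈ T
  · obtain ⟨a, ha, hφa⟩ := h
    have step : ∀ b ∈ T, φ b ∈ T := by
      intro b hb
      obtain ⟨c, hc⟩ := isConj_iff.1
        (alternatingGroup.isThreeCycle_isConj (by simp) (Finset.mem_filter.1 ha).2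
          (Finset.mem_filter.1 hb).2)
      refine Finset.mem_filter.2 ⟨Finset.mem_univ _, ?_⟩
      rw [← hc, map_mul, map_mul, map_inv, Subgroup.coe_mul, Subgroup.coe_mul, Subgroup.coe_inv,
        cycleType_conj]
      exact (Finset.mem_filter.1 hφa).2
    exact (Finset.mem_filter.1 (step _ (step z hzT))).2
  · push Not at h
    have himg : T.image φ ⊆ D := by
      intro g hg
      obtain ⟨a, ha, rfl⟩ := Finset.mem_image.1 hg
      refine (hmem _ ?_).resolve_left (h a ha)
      rw [MulEquiv.orderOf_eq]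
      exact hord a (Finset.mem_union_left _ ha)
    have heq : T.image φ = D := Finset.eq_of_subset_of_card_le himg (by
      rw [Finset.card_image_of_injective _ φ.injective]
      exact le_of_eq ((hcard _ (Or.inr rfl)).trans (hcard _ (Or.inl rfl)).symm))
    have hd : φ z ∈ D := himg (Finset.mem_image_of_mem _ hzT)
    have h3 : orderOf (φ (φ z)) = 3 := by
      rw [MulEquiv.orderOf_eq]
      exact hord _ (Finset.mem_union_right _ hd)
    rcases hmem _ h3 with h' | h'
    · exact (Finset.mem_filter.1 h').2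
    · rw [← heq] at h'
      obtain ⟨a, ha, hae⟩ := Finset.mem_image.1 h'
      have hza : a = φ z := φ.injective hae
      exact absurd (hza ▸ ha) (h z hzT)

/-- Automorphisms of odd order come from permutations, also in degree six. -/
theorem mem_range_of_odd {n : ℕ} (hn : 4 ≤ n) (φ : MulAut (alternatingGroup (Fin n)))
    {k : ℕ} (hk : Odd k) (hφ : φ ^ k = 1) :
    φ ∈ (MulAut.conjNormal : Perm (Fin n) →* MulAut (alternatingGroup (Fin n))).range := by
  by_cases h6 : n = 6
  · subst h6
    have h2 : φ ^ 2 ∈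
        (MulAut.conjNormal : Perm (Fin 6) →* MulAut (alternatingGroup (Fin 6))).range := by
      obtain ⟨π, hπ⟩ := CfsgLib.Known.AltAutPres.exists_conj_of_preserves hn (φ ^ 2)
        (fun z hz => by rw [sq]; exact three_class_six φ hz)
      refine ⟨π, MulEquiv.ext fun x => Subtype.ext ?_⟩
      rw [MulAut.conjNormal_apply]
      exact (hπ x).symm
    obtain ⟨j, rfl⟩ := hk
    have : φ = (φ ^ 2) ^ (j + 1) := by
      rw [← pow_mul, show 2 * (j + 1) = 2 * j + 1 + 1 by ring, pow_succ, hφ, one_mul]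
    rw [this]
    exact pow_mem h2 _
  · exact (CfsgLib.Known.AltAut.bijective_conjNormal hn h6).2 φ

theorem sylow_commutative {n r : ℕ} [Fact r.Prime] (hn : 4 ≤ n) (hr : r ≠ 2) (hnr : n < r ^ 2)
    (G : Subgroup (MulAut (alternatingGroup (Fin n)))) (P : Sylow r G) :
    IsMulCommutative (P : Subgroup G) := by
  haveI : Finite (MulAut (alternatingGroup (Fin n))) :=
    Finite.of_injective _ DFunLike.coe_injective
  let f : Perm (Fin n) →* MulAut (alternatingGroup (Fin n)) := MulAut.conjNormal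
  let Q : Subgroup (MulAut (alternatingGroup (Fin n))) := (P : Subgroup G).map G.subtype
  have hQ : IsPGroup r Q := P.2.map G.subtype
  have hle : Q ≤ f.range := by
    intro φ hφ
    obtain ⟨j, hj⟩ := hQ ⟨φ, hφ⟩
    refine mem_range_of_odd hn φ (((Fact.out : r.Prime).odd_of_ne_two hr).pow (n := j)) ?_
    exact congrArg Subtype.val hj
  obtain ⟨T, hT⟩ := (hQ.comap_subtype (K := f.range)).exists_le_sylow
  obtain ⟨R, hR⟩ := Sylow.mapSurjective_surjective f.rangeRestrict_surjective r T
  have hRc := isMulCommutative_sylow_perm hnr R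
  have hcomm : ∀ a ∈ Q, ∀ b ∈ Q, a * b = b * a := by
    intro a ha b hb
    have ha' : (⟨a, hle ha⟩ : f.range) ∈ (T : Subgroup f.range) := hT (by exact ha)
    have hb' : (⟨b, hle hb⟩ : f.range) ∈ (T : Subgroup f.range) := hT (by exact hb)
    rw [← hR, Sylow.coe_mapSurjective] at ha' hb'
    obtain ⟨u, hu, hua⟩ := ha'
    obtain ⟨v, hv, hvb⟩ := hb'
    have hua' : f u = a := congrArg Subtype.val hua
    have hvb' : f v = b := congrArg Subtype.val hvb
    have h : u * v = v * u := congrArg Subtype.val (hRc.is_comm.comm (⟨u, hu⟩ : R) ⟨v, hv⟩)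
    rw [← hua', ← hvb', ← map_mul, h, map_mul]
  refine ⟨⟨fun a b => Subtype.ext (Subtype.ext ?_)⟩⟩
  exact hcomm _ ⟨a.1, a.2, rfl⟩ _ ⟨b.1, b.2, rfl⟩

theorem exists_orderOf {n : ℕ} (hn : 5 ≤ n) (G : Subgroup (MulAut (alternatingGroup (Fin n))))
    (hG : (MulAut.conj : alternatingGroup (Fin n) →* MulAut (alternatingGroup (Fin n))).range ≤ G)
    (m : Multiset ℕ) (hsum : m.sum ≤ n) (h2 : ∀ a ∈ m, 2 ≤ a)
    (heven : Even (m.sum + Multiset.card m)) : ∃ g : G, orderOf g = m.lcm := by
  obtain ⟨σ, hσ⟩ := (Equiv.Perm.exists_with_cycleType_iff (Fin n)).2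
    ⟨by simpa using hsum, h2⟩
  have hmem : σ ∈ alternatingGroup (Fin n) := by
    rw [Perm.mem_alternatingGroup, sign_of_cycleType, hσ]
    exact heven.neg_one_pow
  have hinj : Function.Injective
      (MulAut.conj : alternatingGroup (Fin n) →* MulAut (alternatingGroup (Fin n))) := by
    refine (injective_iff_map_eq_one _).2 fun a ha => ?_
    have hc : a ∈ Subgroup.center (alternatingGroup (Fin n)) := by
      rw [Subgroup.mem_center_iff]
      intro b
      have := DFunLike.congr_fun ha b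
      rw [MulAut.conj_apply, MulAut.one_apply, mul_inv_eq_iff_eq_mul] at this
      exact this.symm
    rwa [alternatingGroup.center_eq_bot (by simp; omega), Subgroup.mem_bot] at hc
  refine ⟨⟨MulAut.conj ⟨σ, hmem⟩, hG ⟨_, rfl⟩⟩, ?_⟩
  rw [Subgroup.orderOf_mk, orderOf_injective _ hinj, Subgroup.orderOf_mk, ← lcm_cycleType, hσ]

theorem abelian_of_no_pq {n : ℕ} (hn : 5 ≤ n) (G : Subgroup (MulAut (alternatingGroup (Fin n))))
    (hG : (MulAut.conj : alternatingGroup (Fin n) →* MulAut (alternatingGroup (Fin n))).range ≤ G)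
    (p q : ℕ) [hp : Fact p.Prime] [hq : Fact q.Prime] (hpq : p ≠ q)
    (h : ∀ g : G, orderOf g ≠ p * q) :
    (∀ P : Sylow p G, IsMulCommutative (P : Subgroup G)) ∨
      (∀ Q : Sylow q G, IsMulCommutative (Q : Subgroup G)) := by
  by_cases h1 : p ≠ 2 ∧ n < p ^ 2
  · exact Or.inl (sylow_commutative (by omega) h1.1 h1.2 G)
  by_cases h2 : q ≠ 2 ∧ n < q ^ 2
  · exact Or.inr (sylow_commutative (by omega) h2.1 h2.2 G)
  exfalso
  have two : ∀ r : ℕ, r.Prime → r ≠ 2 → r ^ 2 ≤ n → ∃ g : G, orderOf g = 2 * r := by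
    intro r hr hr2 hrn
    have h3 : 3 ≤ r := by have := hr.two_le; omega
    have h9 : r + 4 ≤ r ^ 2 := by nlinarith
    obtain ⟨g, hg⟩ := exists_orderOf hn G hG {2, 2, r} (by simp; omega)
      (by simp; omega) (by
        obtain ⟨j, hj⟩ := hr.odd_of_ne_two hr2
        exact ⟨j + 4, by simp; omega⟩)
    refine ⟨g, hg.trans ?_⟩
    simp only [Multiset.insert_eq_cons, Multiset.lcm_cons, Multiset.lcm_singleton, normalize_eq]
    show Nat.lcm 2 (Nat.lcm 2 r) = 2 * r
    rw [← Nat.lcm_assoc, Nat.lcm_self,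
      Nat.Coprime.lcm_eq_mul ((Nat.coprime_primes Nat.prime_two hr).2 (Ne.symm hr2))]
  have hp' : p = 2 ∨ p ^ 2 ≤ n := by omega
  have hq' : q = 2 ∨ q ^ 2 ≤ n := by omega
  by_cases p2 : p = 2
  · obtain ⟨g, hg⟩ := two q hq.out (fun e => hpq (p2.trans e.symm))
      (hq'.resolve_left fun e => hpq (p2.trans e.symm))
    exact h g (by rw [hg, p2])
  by_cases q2 : q = 2
  · obtain ⟨g, hg⟩ := two p hp.out p2 (hp'.resolve_left p2)
    exact h g (by rw [hg, q2, mul_comm])
  have hpn := hp'.resolve_left p2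
  have hqn := hq'.resolve_left q2
  have hp2 := hp.out.two_le
  have hq2 := hq.out.two_le
  have hsum : p + q ≤ n := by
    rcases Nat.lt_or_ge p q with hlt | hge
    · nlinarith
    · nlinarith
  obtain ⟨g, hg⟩ := exists_orderOf hn G hG {p, q} (by simpa using hsum)
    (by simp; omega) (by
      obtain ⟨i, hi⟩ := hp.out.odd_of_ne_two p2
      obtain ⟨j, hj⟩ := hq.out.odd_of_ne_two q2
      exact ⟨i + j + 2, by simp; omega⟩)
  refine h g (hg.trans ?_)
  simp only [Multiset.insert_eq_cons, Multiset.lcm_cons, Multiset.lcm_singleton, normalize_eq]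
  exact Nat.Coprime.lcm_eq_mul ((Nat.coprime_primes hp.out hq.out).2 hpq)

end CfsgLib.SymSylow.AutAlt
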