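/-
The derived length of a Sylow 2-subgroup of a symplectic group in odd characteristic.
-/
import Cfsg.Agent.Lib.SymSylow.SpTwo
import Cfsg.Agent.Lib.FGS.SymmSylowLength
import Cfsg.Agent.S4014
import Mathlib.GroupTheory.SemidirectProduct

set_option autoImplicit false
set_option maxHeartbeats 1000000

namespace CfsgLib.SymSylow.SpLength

open Matrix CfsgLib.SymSylow

universe u

variable {F : Type u} [Field F] [Fintype F] {n : ℕ}

/-- The monomial homomorphism defined by a cocycle. -/
noncomputable def monoHom {D : Type*} [Group D] (b : D → Fin n → SpecialLinearGroup (Fin 2) F)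
    (w : D →* Equiv.Perm (Fin n)) (h : ∀ x y i, b (x * y) i = b x i * b y ((w x).symm i)) :
    D →* Matrix.symplecticGroup (Fin n) F :=
  MonoidHom.mk' (fun x => spBlk (b x) * spPerm (w x)) fun x y => by
    rw [show b (x * y) = b x * fun i => b y ((w x).symm i) from funext fun i => h x y i, map_mul, map_mul,
      mul_assoc (spBlk (b x)), mul_assoc (spBlk (b x)), ← mul_assoc (spPerm (w x)), spPerm_mul_spBlk, mul_assoc,
      map_mul]

omit [Fintype F] in
theorem monoHom_injective {D : Type*} [Group D] (b : D → Fin n → SpecialLinearGroup (Fin 2) F)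
    (w : D →* Equiv.Perm (Fin n)) (h : ∀ x y i, b (x * y) i = b x i * b y ((w x).symm i))
    (hinj : ∀ x, b x = 1 → w x = 1 → x = 1) : Function.Injective (monoHom b w h) := by
  rw [injective_iff_map_eq_one]
  intro x hx
  have hx' : spBlk (b x) = spPerm (F := F) (w x)⁻¹ := by
    rw [map_inv]
    exact eq_inv_of_mul_eq_one_left hx
  obtain ⟨h1, h2⟩ := spBlk_eq_spPerm hx'
  exact hinj x h1 (inv_eq_one.1 h2)

/-- Iterated wreath products over a Sylow subgroup of `SL₂` act monomially. -/
theorem exists_monomial (h2 : (2 : F) ≠ 0) : ∀ j : ℕ, ∃ (D : Type u) (_ : Group D), IsPGroup 2 D ∧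
    derivedSeries D (j + 1) ≠ ⊥ ∧ ∃ (ι : Type) (_ : Fintype ι), Fintype.card ι = 2 ^ j ∧
      ∃ (b : D → ι → SpecialLinearGroup (Fin 2) F) (w : D →* Equiv.Perm ι),
        (∀ x y i, b (x * y) i = b x i * b y ((w x).symm i)) ∧ ∀ x, b x = 1 → w x = 1 → x = 1 := by
  intro j
  induction j with
  | zero =>
    haveI : Fact (Nat.Prime 2) := ⟨Nat.prime_two⟩
    let P₀ : Sylow 2 (SpecialLinearGroup (Fin 2) F) := default
    obtain ⟨k, hk, ⟨e⟩⟩ := Classical.SL2Q.sylow_two_quaternion h2 P₀
    refine ⟨P₀, inferInstance, P₀.isPGroup', fun hbot => ?_, Unit, inferInstance, by simp, fun x _ => x.1, 1,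
      fun x y _ => rfl, fun x h _ => Subtype.ext (congrFun h ())⟩
    have hab : ∀ x y : QuaternionGroup (2 ^ k), x * y = y * x := fun x y => by
      refine e.symm.injective ?_
      rw [map_mul, map_mul]
      rw [derivedSeries_succ, derivedSeries_zero] at hbot
      have h := Subgroup.commutator_mem_commutator (Subgroup.mem_top (e.symm x)) (Subgroup.mem_top (e.symm y))
      rw [hbot, Subgroup.mem_bot, commutatorElement_eq_one_iff_mul_comm] at h
      exact h
    have h1 := hab (QuaternionGroup.a 1) (QuaternionGroup.xa 0)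
    rw [QuaternionGroup.a_mul_xa, QuaternionGroup.xa_mul_a] at h1
    have h3 : (1 : ZMod (2 * 2 ^ k)) + 1 = 0 := by
      have := QuaternionGroup.xa.inj h1
      linear_combination -this
    have h4 : ((2 : ℕ) : ZMod (2 * 2 ^ k)) = 0 := by exact_mod_cast (by linear_combination h3 : (2 : ZMod (2 * 2 ^ k)) = 0)
    rw [ZMod.natCast_eq_zero_iff] at h4
    have := Nat.le_of_dvd (by norm_num) h4
    have : 2 ≤ 2 ^ k := le_self_pow₀ (by norm_num) (by omega)
    omega
  | succ j ih =>
    obtain ⟨D, _, hD, hne, ι, _, hι, b, w, hco, hinj⟩ := ih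
    haveI : Fact (Nat.Prime 2) := ⟨Nat.prime_two⟩
    let C := Multiplicative (ZMod 2)
    let w' : (D ≀ᵣ C) →* Equiv.Perm (C × ι) :=
      MonoidHom.mk' (fun x => {
        toFun := fun p => (x.right * p.1, w (x.left (x.right * p.1)) p.2)
        invFun := fun p => (x.right⁻¹ * p.1, (w (x.left p.1)).symm p.2)
        left_inv := fun p => by
          obtain ⟨c, i⟩ := p
          refine Prod.ext (inv_mul_cancel_left x.right c) ?_
          simp
        right_inv := fun p => by
          obtain ⟨c, i⟩ := p
          dsimp only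
          rw [show x.right * (x.right⁻¹ * c) = c from mul_inv_cancel_left x.right c, Equiv.apply_symm_apply] }) fun x y => Equiv.ext fun p => by
          simp [RegularWreathProduct.mul_left, RegularWreathProduct.mul_right, mul_assoc]
    refine ⟨D ≀ᵣ C, inferInstance, ?_,
      CfsgLib.FGS.SymmSylowLength.derivedSeries_wreath_ne_bot (j + 1) hne, C × ι, inferInstance, ?_,
      fun x p => b (x.left p.1) p.2, w', fun x y p => ?_, fun x hb hw => ?_⟩
    · have hC : IsPGroup 2 C := IsPGroup.of_card (n := 1) (by simp [C])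
      let π : (D ≀ᵣ C) →* C := RegularWreathProduct.rightHom
      intro x
      obtain ⟨k₁, hk₁⟩ := hC x.right
      have hy : (x ^ 2 ^ k₁).right = 1 := (map_pow π x (2 ^ k₁)).trans hk₁
      set y := x ^ 2 ^ k₁
      have hpow : ∀ (e : ℕ) c, (y ^ e).left c = y.left c ^ e ∧ (y ^ e).right = 1 := by
        intro e c
        induction e with
        | zero => exact ⟨by simp, by simp⟩
        | succ e ih =>
          rw [pow_succ, RegularWreathProduct.mul_left, RegularWreathProduct.mul_right, Pi.mul_apply, ih.2, hy]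
          exact ⟨by simp [ih.1, pow_succ], one_mul 1⟩
      choose kc hkc using fun c : C => hD (y.left c)
      obtain ⟨K, hK⟩ : ∃ K, ∀ c, kc c ≤ K := ⟨Finset.univ.sup kc, fun c => Finset.le_sup (Finset.mem_univ c)⟩
      refine ⟨k₁ + K, ?_⟩
      rw [pow_add, pow_mul]
      refine RegularWreathProduct.ext (funext fun c => ?_) (hpow _ 1).2
      rw [(hpow _ c).1, show K = kc c + (K - kc c) by have := hK c; omega, pow_add, pow_mul, hkc, one_pow]
      rfl
    · rw [Fintype.card_prod, hι, pow_succ']
      simp [C]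
    · change b ((x * y).left p.1) p.2 = b (x.left p.1) p.2 * b (y.left (x.right⁻¹ * p.1)) ((w (x.left p.1)).symm p.2)
      rw [RegularWreathProduct.mul_left, Pi.mul_apply, hco]
    · have hr : x.right = 1 := by
        haveI : Nonempty ι := Fintype.card_pos_iff.1 (by rw [hι]; positivity)
        have h := congrArg Prod.fst (congrArg (fun f : Equiv.Perm (C × ι) => f (1, Classical.arbitrary ι)) hw)
        simpa [w'] using h
      refine RegularWreathProduct.ext (funext fun c => ?_) hr
      refine hinj _ (funext fun i => congrFun hb (c, i)) (Equiv.ext fun i => ?_)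
      have h := congrArg Prod.snd (congrArg (fun f : Equiv.Perm (C × ι) => f (c, i)) hw)
      simpa [w', hr] using h

/-- The lower bound. -/
theorem derivedSeries_ne_bot (hF : Odd (Fintype.card F)) (hn : 1 ≤ n)
    (R : Sylow 2 (Matrix.symplecticGroup (Fin n) F)) :
    derivedSeries ↥(R : Subgroup (Matrix.symplecticGroup (Fin n) F)) (Nat.log 2 n + 1) ≠ ⊥ := by
  classical
  haveI : Fact (Nat.Prime 2) := ⟨Nat.prime_two⟩
  have h2 : (2 : F) ≠ 0 := Ring.two_ne_zero fun hc => by
    rw [FiniteField.even_card_iff_char_two] at hc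
    rw [Nat.odd_iff] at hF
    omega
  obtain ⟨D, _, hD, hne, ι, _, hι, b, w, hco, hinj⟩ := exists_monomial h2 (Nat.log 2 n)
  obtain ⟨e⟩ := Function.Embedding.nonempty_of_card_le (α := ι) (β := Fin n)
    (by rw [hι, Fintype.card_fin]; exact Nat.pow_log_le_self 2 (by omega))
  let w' := (Equiv.Perm.viaEmbeddingHom e).comp w
  have hwe : ∀ x i, (w' x).symm (e i) = e ((w x).symm i) := fun x i => by
    rw [Equiv.symm_apply_eq]
    change _ = Equiv.Perm.viaEmbedding (w x) e (e ((w x).symm i))
    rw [Equiv.Perm.viaEmbedding_apply, Equiv.apply_symm_apply]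
  let b' : D → Fin n → SpecialLinearGroup (Fin 2) F := fun x => Function.extend e (b x) 1
  have hco' : ∀ x y i, b' (x * y) i = b' x i * b' y ((w' x).symm i) := by
    intro x y i
    by_cases h : ∃ k, e k = i
    · obtain ⟨k, rfl⟩ := h
      simp only [b', hwe, e.injective.extend_apply, hco]
    · have h' : (w' x).symm i = i := by
        rw [Equiv.symm_apply_eq]
        exact (Equiv.Perm.viaEmbedding_apply_of_notMem (w x) e i fun ⟨k, hk⟩ => h ⟨k, hk⟩).symm
      simp [b', h', Function.extend_apply' _ _ _ h]
  let f := monoHom b' w' hco'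
  have hf : Function.Injective f := monoHom_injective b' w' hco' fun x hb hw => by
    refine hinj x (funext fun i => ?_) (Equiv.Perm.viaEmbeddingHom_injective e (hw.trans (map_one _).symm))
    have := congrFun hb (e i)
    simpa [b', e.injective.extend_apply] using this
  obtain ⟨Q, hQ⟩ := (hD.of_surjective f.rangeRestrict f.rangeRestrict_surjective).exists_le_sylow
  let j := (Q.equiv R).toMonoidHom.comp ((Subgroup.inclusion hQ).comp f.rangeRestrict)
  have hj : Function.Injective j := (Q.equiv R).injective.comp ((Subgroup.inclusion_injective hQ).comp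
    fun a b h => hf (congrArg Subtype.val h))
  intro hbot
  apply hne
  have h := map_derivedSeries_le_derivedSeries j (Nat.log 2 n + 1)
  rw [hbot, le_bot_iff, Subgroup.map_eq_bot_iff_of_injective _ hj] at h
  exact h

/-- The permutations act on the tuples. -/
def shiftHom (P : Subgroup (SpecialLinearGroup (Fin 2) F)) (W : Subgroup (Equiv.Perm (Fin n))) :
    W →* MulAut (Fin n → P) where
  toFun v := MulEquiv.arrowCongr v.1 (MulEquiv.refl _)
  map_one' := rfl
  map_mul' _ _ := rfl

/-- The upper bound. -/
theorem derivedSeries_eq_bot (hF : Odd (Fintype.card F)) (hn : 1 ≤ n)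
    (R : Sylow 2 (Matrix.symplecticGroup (Fin n) F)) :
    derivedSeries ↥(R : Subgroup (Matrix.symplecticGroup (Fin n) F)) (Nat.log 2 n + 2) = ⊥ := by
  classical
  haveI : Fact (Nat.Prime 2) := ⟨Nat.prime_two⟩
  have h2 : (2 : F) ≠ 0 := Ring.two_ne_zero fun hc => by
    rw [FiniteField.even_card_iff_char_two] at hc
    rw [Nat.odd_iff] at hF
    omega
  let P₀ : Sylow 2 (SpecialLinearGroup (Fin 2) F) := default
  let W₀ : Sylow 2 (Equiv.Perm (Fin n)) := default
  let M := (Fin n → (P₀ : Subgroup (SpecialLinearGroup (Fin 2) F))) ⋊[shiftHom _ (W₀ : Subgroup (Equiv.Perm (Fin n)))]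
    (W₀ : Subgroup (Equiv.Perm (Fin n)))
  let f : M →* Matrix.symplecticGroup (Fin n) F := monoHom (fun x i => (x.left i).1)
    ((W₀ : Subgroup (Equiv.Perm (Fin n))).subtype.comp SemidirectProduct.rightHom) fun x y i => rfl
  have hf : Function.Injective f := monoHom_injective _ _ (fun x y i => rfl) fun x hb hw =>
    SemidirectProduct.ext (funext fun i => Subtype.ext (congrFun hb i)) (Subtype.ext hw)
  have hcard : Nat.card f.range = 2 ^ (Nat.card (Matrix.symplecticGroup (Fin n) F)).factorization 2 := by
    rw [← Nat.card_congr (MonoidHom.ofInjective hf).toEquiv, Nat.card_congr SemidirectProduct.equivProd,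
      Nat.card_prod, Nat.card_pi, Finset.prod_const, Finset.card_univ, Fintype.card_fin, P₀.card_eq_multiplicity,
      W₀.card_eq_multiplicity, ← pow_mul, ← pow_add, factorization_card_sp hF, mul_comm n, Nat.card_perm,
      Nat.card_fin]
  -- the tuples are metabelian
  have hP : derivedSeries ↥(P₀ : Subgroup (SpecialLinearGroup (Fin 2) F)) 2 = ⊥ := by
    obtain ⟨k, hk, ⟨e⟩⟩ := Classical.SL2Q.sylow_two_quaternion h2 P₀
    have hD1 : ∀ x ∈ derivedSeries (QuaternionGroup (2 ^ k)) 1, ∃ i, x = QuaternionGroup.a i := by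
      let S : Subgroup (QuaternionGroup (2 ^ k)) :=
        { carrier := {x | ∃ i, x = QuaternionGroup.a i}
          one_mem' := ⟨0, rfl⟩
          mul_mem' := by rintro _ _ ⟨i, rfl⟩ ⟨j, rfl⟩; exact ⟨i + j, QuaternionGroup.a_mul_a i j⟩
          inv_mem' := by rintro _ ⟨i, rfl⟩; exact ⟨-i, rfl⟩ }
      intro x hx
      refine (show derivedSeries (QuaternionGroup (2 ^ k)) 1 ≤ S from ?_) hx
      rw [derivedSeries_succ, derivedSeries_zero, Subgroup.commutator_le]
      rintro (i | i) _ (j | j) _ <;> rw [commutatorElement_def] <;> exact ⟨_, rfl⟩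
    have h := map_derivedSeries_le_derivedSeries e.toMonoidHom 2
    have h0 : derivedSeries (QuaternionGroup (2 ^ k)) 2 = ⊥ := by
      rw [eq_bot_iff, derivedSeries_succ, Subgroup.commutator_le]
      intro x hx y hy
      obtain ⟨i, rfl⟩ := hD1 x hx
      obtain ⟨j, rfl⟩ := hD1 y hy
      rw [Subgroup.mem_bot, commutatorElement_eq_one_iff_mul_comm, QuaternionGroup.a_mul_a, QuaternionGroup.a_mul_a,
        add_comm]
    rw [h0, le_bot_iff, Subgroup.map_eq_bot_iff_of_injective _ e.injective] at h
    exact h
  have hW := (Cfsg.Agent.S4014.result 2 n hn W₀).1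
  have hM : derivedSeries M (Nat.log 2 n + 2) = ⊥ := by
    have h1 : derivedSeries M (Nat.log 2 n) ≤ (SemidirectProduct.inl :
        (Fin n → (P₀ : Subgroup (SpecialLinearGroup (Fin 2) F))) →* M).range := by
      rw [SemidirectProduct.range_inl_eq_ker_rightHom]
      intro x hx
      have h := map_derivedSeries_le_derivedSeries (SemidirectProduct.rightHom : M →* _) (Nat.log 2 n)
        (Subgroup.mem_map_of_mem _ hx)
      rw [hW, Subgroup.mem_bot] at h
      exact h
    have h2' : ∀ k, derivedSeries M (Nat.log 2 n + k) ≤ (derivedSeries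
        (Fin n → (P₀ : Subgroup (SpecialLinearGroup (Fin 2) F))) k).map SemidirectProduct.inl := by
      intro k
      induction k with
      | zero => rw [derivedSeries_zero, ← MonoidHom.range_eq_map]; exact h1
      | succ k ih =>
        rw [← add_assoc, derivedSeries_succ, derivedSeries_succ, Subgroup.map_commutator]
        exact Subgroup.commutator_mono ih ih
    refine le_bot_iff.1 ((h2' 2).trans ?_)
    rintro _ ⟨x, hx, rfl⟩
    have hx1 : x = 1 := funext fun i => by
      have h := map_derivedSeries_le_derivedSeries (Pi.evalMonoidHom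
        (fun _ : Fin n => (P₀ : Subgroup (SpecialLinearGroup (Fin 2) F))) i) 2 (Subgroup.mem_map_of_mem _ hx)
      rw [hP, Subgroup.mem_bot] at h
      exact h
    rw [hx1, map_one]
    exact one_mem _
  let j : M →* ↥(R : Subgroup (Matrix.symplecticGroup (Fin n) F)) :=
    ((Sylow.ofCard f.range hcard).equiv R).toMonoidHom.comp f.rangeRestrict
  have hj : Function.Surjective j :=
    ((Sylow.ofCard f.range hcard).equiv R).surjective.comp f.rangeRestrict_surjective
  rw [← map_derivedSeries_eq hj, hM, Subgroup.map_bot]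

end CfsgLib.SymSylow.SpLength
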