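import Mathlib

/-!
When does a 2-element of a symmetric group lie in exactly one Sylow 2-subgroup?

A Sylow 2-subgroup determines the pairing (an involution with at most one fixed point) which it
centralizes; conversely every pairing commuting with a 2-element `x` is obtained from a Sylow
2-subgroup containing `x`.
-/

open Equiv

namespace CfsgLib.SymSylow.UniqueTwo

variable {α : Type} [Fintype α] [DecidableEq α]

/-- An involutory permutation with at most one fixed point. -/
def Pairing (t : Perm α) : Prop :=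
  (∀ a, t (t a) = a) ∧ ∀ a b, t a = a → t b = b → a = b

/-- At most two fixed points and nontrivial cycles of pairwise different lengths. -/
def Cond (x : Perm α) : Prop :=
  (∀ a b c, x a = a → x b = b → x c = c → a = b ∨ a = c ∨ b = c) ∧
    ∀ a b, x a ≠ a → x b ≠ b → (∀ j : ℕ, (x ^ j) a = a ↔ (x ^ j) b = b) →
      ∃ j : ℕ, (x ^ j) a = b

theorem commute_apply {x t : Perm α} (h : Commute x t) (a : α) : x (t a) = t (x a) :=
  Equiv.ext_iff.1 h.eq a

theorem Pairing.conj {t : Perm α} (ht : Pairing t) (g : Perm α) : Pairing (g * t * g⁻¹) := by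
  have e : ∀ a, (g * t * g⁻¹) (g a) = g (t a) := fun a => by simp
  refine ⟨fun a => ?_, fun a b ha hb => ?_⟩
  · obtain ⟨a, rfl⟩ := g.surjective a
    rw [e, e, ht.1]
  · obtain ⟨a, rfl⟩ := g.surjective a
    obtain ⟨b, rfl⟩ := g.surjective b
    rw [e] at ha hb
    rw [ht.2 a b (g.injective ha) (g.injective hb)]

theorem exists_pairing_sylow (α : Type) [Fintype α] [DecidableEq α] :
    ∃ (t : Perm α) (P : Sylow 2 (Perm α)), Pairing t ∧ ∀ g ∈ P, Commute g t := by
  haveI : Fact (Nat.Prime 2) := ⟨Nat.prime_two⟩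
  obtain ⟨m, r, hr, hn⟩ : ∃ m r, r < 2 ∧ Fintype.card α = 2 * m + r :=
    ⟨Fintype.card α / 2, Fintype.card α % 2, by omega, by omega⟩
  obtain ⟨t, ht⟩ := (Equiv.Perm.exists_with_cycleType_iff α (m := Multiset.replicate m 2)).2
    ⟨by rw [Multiset.sum_replicate, smul_eq_mul]; omega,
      fun a ha => (Multiset.eq_of_mem_replicate ha).ge⟩
  have hsum : t.support.card = 2 * m := by
    rw [← Equiv.Perm.sum_cycleType, ht, Multiset.sum_replicate, smul_eq_mul]; omega
  have hpair : Pairing t := by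
    refine ⟨fun a => ?_, fun a b ha hb => ?_⟩
    · have h2 : t ^ 2 = 1 := Equiv.Perm.pow_prime_eq_one_iff.2
        (fun c hc => Multiset.eq_of_mem_replicate (ht ▸ hc))
      rw [← Equiv.Perm.mul_apply, ← sq, h2, Equiv.Perm.one_apply]
    · have hc : (t.supportᶜ).card ≤ 1 := by rw [Finset.card_compl]; omega
      exact Finset.card_le_one.1 hc a (by simpa using ha) b (by simpa using hb)
  have hval : (Nat.card (Subgroup.centralizer {t})).factorization 2 =
      (Nat.card (Perm α)).factorization 2 := by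
    have hprod : (∏ n ∈ t.cycleType.toFinset, (t.cycleType.count n).factorial) = m.factorial := by
      rw [ht]
      rcases Nat.eq_zero_or_pos m with rfl | hm
      · simp
      · rw [Multiset.toFinset_replicate, if_neg hm.ne', Finset.prod_singleton,
          Multiset.count_replicate_self]
    rw [Equiv.Perm.nat_card_centralizer, hprod, ht, Multiset.sum_replicate,
      Multiset.prod_replicate, smul_eq_mul, Nat.card_perm, Nat.card_eq_fintype_card, hn,
      show 2 * m + r - m * 2 = r by omega, Nat.factorization_def _ Nat.prime_two,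
      Nat.factorization_def _ Nat.prime_two, padicValNat_factorial_mul_add m hr,
      padicValNat_factorial_mul m]
    have hr1 : r.factorial = 1 := by interval_cases r <;> rfl
    rw [hr1, one_mul, padicValNat.mul (by positivity) (Nat.factorial_ne_zero m),
      padicValNat.prime_pow]
    omega
  obtain ⟨R⟩ : Nonempty (Sylow 2 (Subgroup.centralizer {t})) := inferInstance
  have hcard : Nat.card ((R : Subgroup (Subgroup.centralizer {t})).map
      (Subgroup.centralizer {t}).subtype) = 2 ^ (Nat.card (Perm α)).factorization 2 := by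
    rw [Subgroup.card_map_of_injective (Subgroup.subtype_injective _), Sylow.card_eq_multiplicity,
      hval]
  refine ⟨t, Sylow.ofCard _ hcard, hpair, ?_⟩
  intro g hg
  obtain ⟨q, -, rfl⟩ := Subgroup.mem_map.1 hg
  exact (Subgroup.mem_centralizer_iff.1 q.2 t rfl).symm

/-- Every Sylow 2-subgroup centralizes a pairing. -/
theorem exists_centralized (P : Sylow 2 (Perm α)) :
    ∃ t : Perm α, Pairing t ∧ ∀ g ∈ P, Commute g t := by
  haveI : Fact (Nat.Prime 2) := ⟨Nat.prime_two⟩
  obtain ⟨t, P₀, ht, hP₀⟩ := exists_pairing_sylow α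
  obtain ⟨g, hg⟩ := MulAction.exists_smul_eq (Perm α) P₀ P
  refine ⟨g * t * g⁻¹, ht.conj g, fun y hy => ?_⟩
  rw [← hg] at hy
  change y ∈ ((g • P₀ : Sylow 2 (Perm α)) : Subgroup (Perm α)) at hy
  rw [Sylow.coe_subgroup_smul, Subgroup.mem_pointwise_smul_iff_inv_smul_mem] at hy
  have := hP₀ _ hy
  rw [← map_inv, MulAut.smul_def, MulAut.conj_apply, inv_inv] at this
  have e : y = g * (g⁻¹ * y * g) * g⁻¹ := by group
  rw [e]
  exact (commute_iff_eq _ _).2 (by
    calc g * (g⁻¹ * y * g) * g⁻¹ * (g * t * g⁻¹) = g * ((g⁻¹ * y * g) * t) * g⁻¹ := by group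
      _ = g * (t * (g⁻¹ * y * g)) * g⁻¹ := by rw [this.eq]
      _ = g * t * g⁻¹ * (g * (g⁻¹ * y * g) * g⁻¹) := by group)

/-- A pairing commuting with a 2-element `x` is the unique one centralized by some Sylow
2-subgroup containing `x`. -/
theorem exists_sylow_of_pairing {x t : Perm α} (ht : Pairing t) (hxt : Commute x t)
    (hx : IsPGroup 2 (Subgroup.zpowers x)) :
    ∃ P : Sylow 2 (Perm α), x ∈ P ∧
      ∀ t', Pairing t' → (∀ g ∈ P, Commute g t') → t' = t := by
  haveI : Fact (Nat.Prime 2) := ⟨Nat.prime_two⟩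
  set C := Subgroup.centralizer ({t} : Set (Perm α)) with hC
  have hmemC : ∀ {g : Perm α}, g ∈ C ↔ Commute g t := fun {g} => by
    rw [hC, Subgroup.mem_centralizer_iff]
    exact ⟨fun h => (h t rfl).symm, fun h y hy => by rw [Set.mem_singleton_iff.1 hy]; exact h.eq.symm⟩
  have hxC : Subgroup.zpowers x ≤ C := Subgroup.zpowers_le.2 (hmemC.2 hxt)
  obtain ⟨R, hR⟩ := (hx.comap_subtype (K := C)).exists_le_sylow
  -- the group of permutations acting on each pair separately
  let N : Subgroup C :=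
    { carrier := {g | ∀ a, (g : Perm α) a = a ∨ (g : Perm α) a = t a}
      one_mem' := fun a => Or.inl rfl
      mul_mem' := fun {g h} hg hh a => by
        rw [Subgroup.coe_mul, Equiv.Perm.mul_apply]
        have hgt : ∀ b, (g : Perm α) (t b) = t ((g : Perm α) b) := commute_apply (hmemC.1 g.2)
        rcases hh a with h | h <;> rw [h]
        · exact hg a
        · rw [hgt]
          rcases hg a with h' | h' <;> rw [h']
          · exact Or.inr rfl
          · exact Or.inl (ht.1 a)
      inv_mem' := fun {g} hg a => by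
        have hgt : ∀ b, (g : Perm α) (t b) = t ((g : Perm α) b) := commute_apply (hmemC.1 g.2)
        rw [Subgroup.coe_inv]
        rcases hg a with h | h
        · left; rw [Equiv.Perm.inv_eq_iff_eq]; exact h.symm
        · right; rw [Equiv.Perm.inv_eq_iff_eq, hgt, h, ht.1] }
  have hNn : N.Normal := by
    constructor
    intro n hn g a
    have hgt : ∀ b, (g : Perm α) (t b) = t ((g : Perm α) b) := commute_apply (hmemC.1 g.2)
    obtain ⟨b, rfl⟩ := (g : Perm α).surjective a
    simp only [Subgroup.coe_mul, Subgroup.coe_inv, Equiv.Perm.mul_apply, Equiv.Perm.inv_def,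
      Equiv.symm_apply_apply]
    rcases hn b with h | h <;> rw [h]
    · exact Or.inl rfl
    · exact Or.inr (hgt b)
  have hN : IsPGroup 2 N := by
    intro g
    refine ⟨1, Subtype.ext (Subtype.ext (Equiv.ext fun a => ?_))⟩
    have hgt : ∀ b, (g.1 : Perm α) (t b) = t ((g.1 : Perm α) b) := commute_apply (hmemC.1 g.1.2)
    simp only [pow_one, sq, Subgroup.coe_mul, Equiv.Perm.mul_apply, Subgroup.coe_one,
      Equiv.Perm.one_apply]
    rcases g.2 a with h | h <;> rw [h]
    · exact h
    · rw [hgt, h, ht.1]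
  have hNR : N ≤ (R : Subgroup C) := by
    have := R.3 (R.2.to_sup_of_normal_right hN) le_sup_left
    exact this ▸ le_sup_right
  obtain ⟨P, hP⟩ := (R.2.map C.subtype).exists_le_sylow
  refine ⟨P, ?_, fun t' ht' hcomm => ?_⟩
  · exact hP ⟨⟨x, hmemC.2 hxt⟩, hR (by simp [Subgroup.mem_subgroupOf]), rfl⟩
  have key : ∀ a, t a ≠ a → t' a = t a := by
    intro a ha
    have hmem : ∀ b, t b ≠ b → Commute (swap b (t b)) t' := by
      intro b hb
      apply hcomm
      apply hP
      have hsw : Commute (swap b (t b)) t := by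
        have h := Equiv.mul_swap_eq_swap_mul t b (t b)
        rw [ht.1, swap_comm (t b) b] at h
        exact h.symm
      refine ⟨⟨swap b (t b), hmemC.2 hsw⟩, hNR ?_, rfl⟩
      intro c
      show swap b (t b) c = c ∨ swap b (t b) c = t c
      by_cases h1 : c = b
      · subst h1; exact Or.inr (swap_apply_left _ _)
      · by_cases h2 : c = t b
        · subst h2; right; rw [swap_apply_right, ht.1]
        · exact Or.inl (swap_apply_of_ne_of_ne h1 h2)
    have two : ∀ b, t b ≠ b → t' b = b ∨ t' b = t b := by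
      intro b hb
      by_contra hne
      rw [not_or] at hne
      have := commute_apply (hmem b hb) b
      rw [swap_apply_of_ne_of_ne hne.1 hne.2, swap_apply_left] at this
      exact hb (t'.injective this).symm
    refine (two a ha).resolve_left fun h => ?_
    have hta : t (t a) ≠ t a := fun e => ha (t.injective e)
    rcases two (t a) hta with h' | h'
    · exact ha (ht'.2 _ _ h h').symm
    · rw [ht.1] at h'; exact ha (t'.injective (h'.trans h.symm))
  refine Equiv.ext fun a => ?_
  by_cases ha : t a = a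
  · rw [ha]
    by_contra hne
    have hb : t (t' a) ≠ t' a := fun e => hne (ht.2 _ _ e ha)
    have := key _ hb
    rw [ht'.1] at this
    exact hne (t.injective (ha.trans this)).symm
  · exact key a ha

theorem exists_period {x : Perm α} {k : ℕ} (hk : x ^ 2 ^ k = 1) {a : α} (ha : x a ≠ a) :
    ∃ e : ℕ, ∀ j : ℕ, (x ^ j) a = a ↔ 2 ^ (e + 1) ∣ j := by
  have hiff : ∀ j : ℕ, (x ^ j) a = a ↔ Function.minimalPeriod x a ∣ j := fun j => by
    rw [← Function.isPeriodicPt_iff_minimalPeriod_dvd, Equiv.Perm.coe_pow]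
    rfl
  obtain ⟨i, -, hi⟩ := (Nat.dvd_prime_pow Nat.prime_two).1
    ((hiff (2 ^ k)).1 (by rw [hk, Equiv.Perm.one_apply]))
  cases i with
  | zero => exact absurd ((hiff 1).2 (by rw [hi]; simp)) (by simpa using ha)
  | succ e => exact ⟨e, fun j => by rw [hiff, hi]⟩

theorem pow_apply_commute {x t : Perm α} (h : Commute x t) (j : ℕ) (a : α) :
    (x ^ j) (t a) = t ((x ^ j) a) :=
  commute_apply (h.pow_left j) a

/-- A pairing commuting with `x` satisfying `Cond x` is antipodal on each nontrivial cycle. -/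
theorem pairing_apply {x t : Perm α} (hc : Cond x) (ht : Pairing t) (hxt : Commute x t)
    {a : α} (ha : x a ≠ a) {e : ℕ} (he : ∀ j : ℕ, (x ^ j) a = a ↔ 2 ^ (e + 1) ∣ j) :
    t a = (x ^ 2 ^ e) a := by
  have hta : t a ≠ a := fun h => ha (ht.2 _ _ (by rw [← commute_apply hxt, h]) h)
  have hm : x (t a) ≠ t a := fun h => ha (t.injective (by rw [← commute_apply hxt, h]))
  obtain ⟨j, hj⟩ := hc.2 a (t a) ha hm fun i => by
    rw [pow_apply_commute hxt, t.injective.eq_iff]
  have h2 : (x ^ (j + j)) a = a := by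
    rw [pow_add, Equiv.Perm.mul_apply, hj, pow_apply_commute hxt, hj, ht.1]
  obtain ⟨c, hcj⟩ : 2 ^ e ∣ j := by
    have h := (he _).1 h2
    rw [pow_succ', ← two_mul] at h
    exact Nat.dvd_of_mul_dvd_mul_left (by norm_num) h
  rcases Nat.even_or_odd c with ⟨d, hd⟩ | ⟨d, hd⟩
  · have : (x ^ j) a = a := (he j).2 ⟨d, by rw [hcj, hd, pow_succ]; ring⟩
    exact absurd (hj.symm.trans this) hta
  · have hx : (x ^ (2 ^ (e + 1) * d)) a = a := (he _).2 (dvd_mul_right _ _)
    rw [← hj, show j = 2 ^ e + 2 ^ (e + 1) * d by rw [hcj, hd, pow_succ]; ring, pow_add,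
      Equiv.Perm.mul_apply, hx]

theorem pairing_unique {x t t' : Perm α} {k : ℕ} (hk : x ^ 2 ^ k = 1) (hc : Cond x)
    (ht : Pairing t) (hxt : Commute x t) (ht' : Pairing t') (hxt' : Commute x t') : t = t' := by
  refine Equiv.ext fun a => ?_
  by_cases ha : x a = a
  · have h1 : x (t a) = t a := by rw [commute_apply hxt, ha]
    have h2 : x (t' a) = t' a := by rw [commute_apply hxt', ha]
    have aux : ∀ {t t' : Perm α}, Pairing t → Commute x t → x (t' a) = t' a → t a = a → t' a = a := by
      intro t t' ht hxt h2 h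
      by_contra hne
      have h3 : x (t (t' a)) = t (t' a) := by rw [commute_apply hxt, h2]
      rcases hc.1 _ _ _ ha h2 h3 with h' | h' | h'
      · exact hne h'.symm
      · exact hne (t.injective (by rw [← h', h]))
      · exact hne (ht.2 _ _ h'.symm h)
    rcases hc.1 _ _ _ ha h1 h2 with h | h | h
    · rw [← h, aux ht hxt h2 h.symm]
    · rw [← h, aux ht' hxt' h1 h.symm]
    · exact h
  · obtain ⟨e, he⟩ := exists_period hk ha
    rw [pairing_apply hc ht hxt ha he, pairing_apply hc ht' hxt' ha he]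

/-- The equivalence relation whose classes are the pairs of `t`. -/
def pairSetoid {t : Perm α} (ht : Pairing t) : Setoid α where
  r a b := a = b ∨ t a = b
  iseqv :=
    ⟨fun _ => Or.inl rfl,
      fun {a b} h => h.imp Eq.symm fun h => by rw [← h, ht.1],
      fun {a b c} h1 h2 => by
        rcases h1 with h1 | h1 <;> subst h1
        · exact h2
        · rcases h2 with h2 | h2
          · exact Or.inr h2
          · exact Or.inl (by rw [← h2, ht.1])⟩

/-- The action of the centralizer of a pairing on the pairs. -/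
def pairHom {t : Perm α} (ht : Pairing t) :
    Subgroup.centralizer ({t} : Set (Perm α)) →* Perm (Quotient (pairSetoid ht)) where
  toFun g := Quotient.congr (g : Perm α) fun a b => by
    have hg : (g : Perm α) (t a) = t ((g : Perm α) a) :=
      Equiv.ext_iff.1 (Subgroup.mem_centralizer_iff.1 g.2 t rfl).symm a
    show (a = b ∨ t a = b) ↔ ((g : Perm α) a = (g : Perm α) b ∨ t ((g : Perm α) a) = (g : Perm α) b)
    rw [← hg, (g : Perm α).injective.eq_iff, (g : Perm α).injective.eq_iff]
  map_one' := Equiv.ext fun q => Quotient.inductionOn q fun _ => rfl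
  map_mul' _ _ := Equiv.ext fun q => Quotient.inductionOn q fun _ => rfl

theorem pairHom_apply {t : Perm α} (ht : Pairing t) (g : Subgroup.centralizer ({t} : Set (Perm α)))
    (a : α) : pairHom ht g (Quotient.mk (pairSetoid ht) a) =
      Quotient.mk (pairSetoid ht) ((g : Perm α) a) := rfl

theorem mk_eq_iff {t : Perm α} (ht : Pairing t) {a b : α} :
    Quotient.mk (pairSetoid ht) a = Quotient.mk (pairSetoid ht) b ↔ a = b ∨ t a = b :=
  Quotient.eq

instance (priority := 100) pairDecidable {t : Perm α} (ht : Pairing t) :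
    DecidableRel (pairSetoid ht).r :=
  fun a b => inferInstanceAs (Decidable (a = b ∨ t a = b))

/-- `Cond` passes to the action on the pairs. -/
theorem cond_pairHom {x t : Perm α} {k : ℕ} (hk : x ^ 2 ^ k = 1) (hc : Cond x) (ht : Pairing t)
    (hxt : Commute x t) (hxC : x ∈ Subgroup.centralizer ({t} : Set (Perm α))) :
    Cond (pairHom ht ⟨x, hxC⟩) := by
  have e1 : ∀ a, pairHom ht ⟨x, hxC⟩ (Quotient.mk _ a) = Quotient.mk _ (x a) := fun a => rfl
  have ej : ∀ (j : ℕ) a, (pairHom ht ⟨x, hxC⟩ ^ j) (Quotient.mk _ a) = Quotient.mk _ ((x ^ j) a) := by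
    intro j a
    rw [← map_pow, pairHom_apply, SubgroupClass.coe_pow]
  -- fixed classes of `x` consisting of fixed points
  have hA : ∀ a b, x a = a → x b = b → (a = b ∨ t a = b) := by
    intro a b ha hb
    by_contra hne
    rw [not_or] at hne
    have h1 : x (t a) = t a := by rw [commute_apply hxt, ha]
    have h2 : x (t b) = t b := by rw [commute_apply hxt, hb]
    rcases hc.1 _ _ _ ha hb h1 with h | h | h
    · exact hne.1 h
    · rcases hc.1 _ _ _ ha hb h2 with h' | h' | h'
      · exact hne.1 h'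
      · exact hne.2 (by rw [h', ht.1])
      · exact hne.1 (ht.2 _ _ h.symm h'.symm)
    · exact hne.2 h.symm
  -- fixed classes of `x` consisting of a 2-cycle
  have hB : ∀ a b, x a ≠ a → t (x a) = a → x b ≠ b → t (x b) = b → (a = b ∨ t a = b) := by
    intro a b ha ha' hb hb'
    have key : ∀ {c : α}, t (x c) = c → (x ^ 2) c = c := fun {c} h => by
      have h' : x c = t c := by
        have e := ht.1 (x c)
        rw [h] at e
        exact e.symm
      rw [sq, Equiv.Perm.mul_apply, h', commute_apply hxt, h]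
    have kiff : ∀ {c : α}, x c ≠ c → (x ^ 2) c = c → ∀ j : ℕ, (x ^ j) c = c ↔ 2 ∣ j := by
      intro c hc' h2 j
      obtain ⟨e, he⟩ := exists_period hk hc'
      have h := (he 2).1 h2
      have he0 : e = 0 := by
        have h' := Nat.le_of_dvd (by norm_num) h
        by_contra hne
        have h4 : 2 ^ 2 ≤ 2 ^ (e + 1) := Nat.pow_le_pow_right (by norm_num) (by omega)
        omega
      subst he0
      simpa using he j
    obtain ⟨j, hj⟩ := hc.2 a b ha hb fun j => by
      rw [kiff ha (key ha'), kiff hb (key hb')]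
    rcases Nat.even_or_odd j with hje | ⟨d, hd⟩
    · rw [(kiff ha (key ha') j).2 hje.two_dvd] at hj
      exact Or.inl hj
    · right
      subst hd
      rw [pow_succ', Equiv.Perm.mul_apply, (kiff ha (key ha') _).2 (dvd_mul_right _ _)] at hj
      rw [← hj]
      have e := ht.1 (x a)
      rwa [ha'] at e
  refine ⟨?_, ?_⟩
  · intro A B C
    induction A using Quotient.inductionOn with | _ a => ?_
    induction B using Quotient.inductionOn with | _ b => ?_
    induction C using Quotient.inductionOn with | _ c => ?_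
    intro hA' hB' hC'
    rw [e1, mk_eq_iff] at hA' hB' hC'
    simp only [mk_eq_iff]
    by_cases xa : x a = a <;> by_cases xb : x b = b <;> by_cases xc : x c = c
    · exact Or.inl (hA a b xa xb)
    · exact Or.inl (hA a b xa xb)
    · exact Or.inr (Or.inl (hA a c xa xc))
    · exact Or.inr (Or.inr (hB b c xb (hB'.resolve_left xb) xc (hC'.resolve_left xc)))
    · exact Or.inr (Or.inr (hA b c xb xc))
    · exact Or.inr (Or.inl (hB a c xa (hA'.resolve_left xa) xc (hC'.resolve_left xc)))
    · exact Or.inl (hB a b xa (hA'.resolve_left xa) xb (hB'.resolve_left xb))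
    · exact Or.inl (hB a b xa (hA'.resolve_left xa) xb (hB'.resolve_left xb))
  · intro A B
    induction A using Quotient.inductionOn with | _ a => ?_
    induction B using Quotient.inductionOn with | _ b => ?_
    intro hA' hB' hj
    have ha : x a ≠ a := fun h => hA' (by rw [e1, h])
    have hb : x b ≠ b := fun h => hB' (by rw [e1, h])
    have cls : ∀ {c : α} {e : ℕ}, x c ≠ c → (∀ j : ℕ, (x ^ j) c = c ↔ 2 ^ (e + 1) ∣ j) →
        ∀ j : ℕ, (pairHom ht ⟨x, hxC⟩ ^ j) (Quotient.mk _ c) = Quotient.mk _ c ↔ 2 ^ e ∣ j := by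
      intro c e hc' he j
      have htc := pairing_apply hc ht hxt hc' he
      rw [ej, mk_eq_iff]
      constructor
      · rintro (h | h)
        · exact (dvd_trans (pow_dvd_pow 2 (Nat.le_succ e)) ((he j).1 h))
        · have h' : (x ^ (2 ^ e + j)) c = c := by
            rw [pow_add, Equiv.Perm.mul_apply]
            calc (x ^ 2 ^ e) ((x ^ j) c) = (x ^ j) ((x ^ 2 ^ e) c) := by
                  rw [← Equiv.Perm.mul_apply, ← Equiv.Perm.mul_apply, ← pow_add, ← pow_add,
                    add_comm]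
              _ = (x ^ j) (t c) := by rw [htc]
              _ = t ((x ^ j) c) := pow_apply_commute hxt j c
              _ = c := h
          have := dvd_trans (pow_dvd_pow 2 (Nat.le_succ e)) ((he _).1 h')
          exact (Nat.dvd_add_right dvd_rfl).1 this
      · rintro ⟨m, rfl⟩
        rcases Nat.even_or_odd m with ⟨d, hd⟩ | ⟨d, hd⟩
        · exact Or.inl ((he _).2 ⟨d, by rw [hd, pow_succ]; ring⟩)
        · right
          rw [show 2 ^ e * m = 2 ^ e + 2 ^ (e + 1) * d by rw [hd, pow_succ]; ring, pow_add,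
            Equiv.Perm.mul_apply, (he _).2 (dvd_mul_right _ _), ← htc, ht.1]
    obtain ⟨e, he⟩ := exists_period hk ha
    obtain ⟨f, hf⟩ := exists_period hk hb
    have hef : e = f := by
      have h1 := (cls hb hf (2 ^ e)).1 ((hj _).1 ((cls ha he _).2 dvd_rfl))
      have h2 := (cls ha he (2 ^ f)).1 ((hj _).2 ((cls hb hf _).2 dvd_rfl))
      exact Nat.pow_right_injective le_rfl (Nat.dvd_antisymm h2 h1)
    subst hef
    obtain ⟨j, hj'⟩ := hc.2 a b ha hb fun j => by rw [he, hf]
    exact ⟨j, by rw [ej, hj']⟩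

theorem unique_of_cond : ∀ (n : ℕ) (α : Type) [Fintype α] [DecidableEq α],
    Fintype.card α = n → ∀ (x : Perm α) (k : ℕ), x ^ 2 ^ k = 1 → Cond x →
      ∀ P P' : Sylow 2 (Perm α), x ∈ P → x ∈ P' → P = P' := by
  intro n
  induction n using Nat.strong_induction_on with
  | _ n ih =>
  intro α _ _ hn x k hk hc P P' hP hP'
  haveI : Fact (Nat.Prime 2) := ⟨Nat.prime_two⟩
  obtain ⟨t, ht, htP⟩ := exists_centralized P
  obtain ⟨t', ht', htP'⟩ := exists_centralized P'
  obtain rfl : t = t' := pairing_unique hk hc ht (htP x hP) ht' (htP' x hP')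
  by_cases hsub : Subsingleton α
  · refine Sylow.ext (Subgroup.ext fun g => ?_)
    rw [show g = 1 from Equiv.ext fun a => Subsingleton.elim _ _]
    exact iff_of_true (one_mem _) (one_mem _)
  obtain ⟨a₀, ha₀⟩ : ∃ a, t a ≠ a := by
    by_contra! hall
    exact hsub ⟨fun a b => ht.2 a b (hall a) (hall b)⟩
  have hlt : Fintype.card (Quotient (pairSetoid ht)) < n := by
    rw [← hn]
    refine Fintype.card_lt_of_surjective_not_injective _ Quotient.mk_surjective fun hinj => ?_
    exact ha₀ (hinj ((mk_eq_iff ht).2 (Or.inr rfl))).symm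
  have hmemC : ∀ {g : Perm α}, g ∈ Subgroup.centralizer ({t} : Set (Perm α)) ↔ Commute g t :=
    fun {g} => by
      rw [Subgroup.mem_centralizer_iff]
      exact ⟨fun h => (h t rfl).symm,
        fun h y hy => by rw [Set.mem_singleton_iff.1 hy]; exact h.eq.symm⟩
  have hxC := hmemC.2 (htP x hP)
  have hPC : (P : Subgroup (Perm α)) ≤ Subgroup.centralizer {t} := fun g hg => hmemC.2 (htP g hg)
  have hP'C : (P' : Subgroup (Perm α)) ≤ Subgroup.centralizer {t} :=
    fun g hg => hmemC.2 (htP' g hg)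
  have image : ∀ R : Sylow 2 (Perm α), x ∈ R →
      ∃ S : Sylow 2 (Perm (Quotient (pairSetoid ht))), pairHom ht ⟨x, hxC⟩ ∈ S ∧
        ((R : Subgroup (Perm α)).subgroupOf (Subgroup.centralizer {t})).map (pairHom ht) ≤ S := by
    intro R hR
    obtain ⟨S, hS⟩ := ((R.2.comap_subtype (K := Subgroup.centralizer {t})).map
      (pairHom ht)).exists_le_sylow
    exact ⟨S, hS ⟨⟨x, hxC⟩, hR, rfl⟩, hS⟩
  obtain ⟨S, hxS, hS⟩ := image P hP
  obtain ⟨S', hxS', hS'⟩ := image P' hP'
  have hxk : pairHom ht ⟨x, hxC⟩ ^ 2 ^ k = 1 := by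
    rw [← map_pow, ← map_one (pairHom ht)]
    exact congrArg _ (Subtype.ext (by rw [SubgroupClass.coe_pow, hk]; rfl))
  obtain rfl : S = S' := ih _ hlt _ rfl _ k hxk (cond_pairHom hk hc ht (htP x hP) hxC) S S' hxS hxS'
  have hker : IsPGroup 2 (pairHom ht).ker := by
    intro g
    refine ⟨1, Subtype.ext (Subtype.ext (Equiv.ext fun a => ?_))⟩
    have hgt : ∀ b, (g.1 : Perm α) (t b) = t ((g.1 : Perm α) b) :=
      commute_apply (hmemC.1 g.1.2)
    have h := Equiv.ext_iff.1 (MonoidHom.mem_ker.1 g.2) (Quotient.mk _ a)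
    rw [pairHom_apply, Equiv.Perm.one_apply, mk_eq_iff] at h
    simp only [pow_one, sq, Subgroup.coe_mul, Equiv.Perm.mul_apply, Subgroup.coe_one,
      Equiv.Perm.one_apply]
    rcases h with h | h
    · rw [h, h]
    · have h' : (g.1 : Perm α) a = t a := by
        have e := ht.1 ((g.1 : Perm α) a)
        rw [h] at e
        exact e.symm
      rw [h', hgt, h', ht.1]
  have hJ : IsPGroup 2 (((S : Subgroup _).comap (pairHom ht)).map
      (Subgroup.centralizer {t}).subtype) :=
    (S.2.comap_of_ker_isPGroup _ hker).map _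
  have incl : ∀ R : Sylow 2 (Perm α), (R : Subgroup (Perm α)) ≤ Subgroup.centralizer {t} →
      ((R : Subgroup (Perm α)).subgroupOf (Subgroup.centralizer {t})).map (pairHom ht) ≤ S →
      ((S : Subgroup _).comap (pairHom ht)).map (Subgroup.centralizer {t}).subtype =
        (R : Subgroup (Perm α)) := by
    intro R hRC hRS
    refine R.3 hJ fun g hg => ⟨⟨g, hRC hg⟩, ?_, rfl⟩
    exact hRS ⟨⟨g, hRC hg⟩, hg, rfl⟩
  exact Sylow.ext ((incl P hPC hS).symm.trans (incl P' hP'C hS'))

theorem exists_two_of_not_cond {x : Perm α} {k : ℕ} (hk : x ^ 2 ^ k = 1) (hc : ¬ Cond x) :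
    ∃ P P' : Sylow 2 (Perm α), x ∈ P ∧ x ∈ P' ∧ P ≠ P' := by
  haveI : Fact (Nat.Prime 2) := ⟨Nat.prime_two⟩
  have hxp : IsPGroup 2 (Subgroup.zpowers x) := by
    rw [IsPGroup.iff_card, Nat.card_zpowers]
    obtain ⟨i, -, hi⟩ := (Nat.dvd_prime_pow Nat.prime_two).1 (orderOf_dvd_of_pow_eq_one hk)
    exact ⟨i, hi⟩
  obtain ⟨P₀, hP₀⟩ := hxp.exists_le_sylow
  obtain ⟨t, ht, htP⟩ := exists_centralized P₀
  have hxt : Commute x t := htP x (hP₀ (Subgroup.mem_zpowers x))
  suffices ∃ t', Pairing t' ∧ Commute x t' ∧ t' ≠ t by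
    obtain ⟨t', ht', hxt', hne⟩ := this
    obtain ⟨P, hP, hPu⟩ := exists_sylow_of_pairing ht hxt hxp
    obtain ⟨P', hP', hP'u⟩ := exists_sylow_of_pairing ht' hxt' hxp
    refine ⟨P, P', hP, hP', fun e => hne ?_⟩
    obtain ⟨s, hs, hsP⟩ := exists_centralized P
    rw [← hPu s hs hsP, hP'u s hs (e ▸ hsP)]
  have conjCase : ∀ g : Perm α, Commute x g → (∃ c, g (t c) ≠ t (g c)) →
      ∃ t', Pairing t' ∧ Commute x t' ∧ t' ≠ t := by
    rintro g hg ⟨c, hc⟩
    refine ⟨g * t * g⁻¹, ht.conj g, (hg.mul_right hxt).mul_right hg.inv_right, fun e => hc ?_⟩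
    have := Equiv.ext_iff.1 e (g c)
    simpa using this
  unfold Cond at hc
  rw [not_and_or] at hc
  rcases hc with hc | hc
  · -- three fixed points
    push Not at hc
    obtain ⟨a, b, c, ha, hb, hcx, hab, hac, hbc⟩ := hc
    obtain ⟨u, w, hu, hw, htu, hwu, hwt⟩ :
        ∃ u w, x u = u ∧ x w = w ∧ t u ≠ u ∧ w ≠ u ∧ w ≠ t u := by
      by_cases hta : t a = a
      · have htb : t b ≠ b := fun h => hab (ht.2 _ _ hta h)
        refine ⟨b, a, hb, ha, htb, hab, fun h => hab ?_⟩
        exact hta.symm.trans (by rw [h, ht.1])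
      · by_cases hb' : b = t a
        · exact ⟨a, c, ha, hcx, hta, Ne.symm hac, fun h => hbc (hb'.trans h.symm)⟩
        · exact ⟨a, b, ha, hb, hta, Ne.symm hab, hb'⟩
    refine conjCase (swap u w) ?_ ⟨w, ?_⟩
    · have h := Equiv.mul_swap_eq_swap_mul x u w
      rw [hu, hw] at h
      exact h
    · rw [swap_apply_right]
      intro h
      by_cases h1 : t w = u
      · exact hwt (by rw [← h1, ht.1])
      · by_cases h2 : t w = w
        · rw [h2, swap_apply_right] at h; exact htu h.symm
        · rw [swap_apply_of_ne_of_ne h1 h2] at h; exact hwu (t.injective h)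
  · -- two cycles of equal length
    push Not at hc
    obtain ⟨a, b, ha, hb, hab, hne⟩ := hc
    by_cases hca : ∃ j : ℕ, (x ^ j) a = t a
    swap
    · refine conjCase (x.cycleOf a) ?_ ⟨a, ?_⟩
      · refine Equiv.ext fun y => ?_
        simp only [Equiv.Perm.mul_apply, Equiv.Perm.cycleOf_apply,
          Equiv.Perm.sameCycle_apply_right]
        split_ifs <;> rfl
      · rw [Equiv.Perm.cycleOf_apply_self, Equiv.Perm.cycleOf_apply_of_not_sameCycle]
        · exact fun h => ha (t.injective h).symm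
        · exact fun h => hca h.exists_nat_pow_eq
    by_cases hcb : ∃ j : ℕ, (x ^ j) b = t b
    swap
    · refine conjCase (x.cycleOf b) ?_ ⟨b, ?_⟩
      · refine Equiv.ext fun y => ?_
        simp only [Equiv.Perm.mul_apply, Equiv.Perm.cycleOf_apply,
          Equiv.Perm.sameCycle_apply_right]
        split_ifs <;> rfl
      · rw [Equiv.Perm.cycleOf_apply_self, Equiv.Perm.cycleOf_apply_of_not_sameCycle]
        · exact fun h => hb (t.injective h).symm
        · exact fun h => hcb h.exists_nat_pow_eq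
    -- transport between the two cycles
    have hN : ∀ i : ℕ, x ^ (2 ^ k * i) = 1 := fun i => by rw [pow_mul, hk, one_pow]
    have transfer : ∀ {u v : α}, (∀ j : ℕ, (x ^ j) u = u ↔ (x ^ j) v = v) →
        ∀ i j : ℕ, (x ^ i) u = (x ^ j) u → (x ^ i) v = (x ^ j) v := by
      intro u v huv i j h
      have hM : x ^ i * x ^ ((2 ^ k - 1) * i + j) = x ^ j := by
        rw [← pow_add, show i + ((2 ^ k - 1) * i + j) = 2 ^ k * i + j by
          rw [← add_assoc, add_comm i, ← Nat.succ_mul, Nat.succ_eq_add_one,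
            Nat.sub_add_cancel Nat.one_le_two_pow], pow_add, hN, one_mul]
      have h1 : (x ^ ((2 ^ k - 1) * i + j)) u = u := by
        apply (x ^ i).injective
        rw [← Equiv.Perm.mul_apply, hM, h]
      conv_rhs => rw [← hM, Equiv.Perm.mul_apply, (huv _).1 h1]
    have disj : ∀ i j : ℕ, (x ^ i) a ≠ (x ^ j) b := by
      intro i j h
      apply hne ((2 ^ k - 1) * j + i)
      rw [pow_add, Equiv.Perm.mul_apply, h, ← Equiv.Perm.mul_apply, ← pow_add, ← Nat.succ_mul,
        Nat.succ_eq_add_one, Nat.sub_add_cancel Nat.one_le_two_pow, hN, Equiv.Perm.one_apply]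
    classical
    let F : α → α := fun c =>
      if h : ∃ j : ℕ, (x ^ j) a = c then (x ^ h.choose) b
      else if h' : ∃ j : ℕ, (x ^ j) b = c then (x ^ h'.choose) a else t c
    have FA : ∀ j : ℕ, F ((x ^ j) a) = (x ^ j) b := by
      intro j
      have h : ∃ i : ℕ, (x ^ i) a = (x ^ j) a := ⟨j, rfl⟩
      simp only [F, dif_pos h]
      exact transfer hab _ _ h.choose_spec
    have FB : ∀ j : ℕ, F ((x ^ j) b) = (x ^ j) a := by
      intro j
      have h0 : ¬ ∃ i : ℕ, (x ^ i) a = (x ^ j) b := fun ⟨i, hi⟩ => disj i j hi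
      have h : ∃ i : ℕ, (x ^ i) b = (x ^ j) b := ⟨j, rfl⟩
      simp only [F, dif_neg h0, dif_pos h]
      exact transfer (fun i => (hab i).symm) _ _ h.choose_spec
    have FC : ∀ c, (¬ ∃ j : ℕ, (x ^ j) a = c) → (¬ ∃ j : ℕ, (x ^ j) b = c) → F c = t c := by
      intro c h1 h2
      simp only [F, dif_neg h1, dif_neg h2]
    have stay : ∀ {u : α}, (∃ j : ℕ, (x ^ j) u = t u) → ∀ c, (∃ j : ℕ, (x ^ j) u = t c) →
        ∃ j : ℕ, (x ^ j) u = c := by
      rintro u ⟨i, hi⟩ c ⟨j, hj⟩
      exact ⟨j + i, by rw [pow_add, Equiv.Perm.mul_apply, hi, pow_apply_commute hxt, hj, ht.1]⟩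
    have back : ∀ {u c : α}, (∃ j : ℕ, (x ^ j) u = x c) → ∃ j : ℕ, (x ^ j) u = c := by
      rintro u c ⟨j, hj⟩
      refine ⟨(2 ^ k - 1) + j, x.injective ?_⟩
      rw [← hj, ← Equiv.Perm.mul_apply, ← pow_succ', show 2 ^ k - 1 + j + 1 = 2 ^ k + j by
        have := Nat.one_le_two_pow (n := k); omega, pow_add, hk, one_mul]
    have tri : ∀ c, (∃ j : ℕ, (x ^ j) a = c) ∨ (∃ j : ℕ, (x ^ j) b = c) ∨
        ((¬ ∃ j : ℕ, (x ^ j) a = c) ∧ ¬ ∃ j : ℕ, (x ^ j) b = c) := fun c => by tauto
    have hinv : Function.Involutive F := by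
      intro c
      rcases tri c with ⟨j, rfl⟩ | ⟨j, rfl⟩ | ⟨h1, h2⟩
      · rw [FA, FB]
      · rw [FB, FA]
      · rw [FC c h1 h2, FC _ (fun h => h1 (stay hca c h)) (fun h => h2 (stay hcb c h)), ht.1]
    refine ⟨hinv.toPerm F, ⟨hinv, fun c d hc hd => ?_⟩, ?_, fun e => ?_⟩
    · have fixF : ∀ c, F c = c → t c = c := by
        intro c hc
        rcases tri c with ⟨j, rfl⟩ | ⟨j, rfl⟩ | ⟨h1, h2⟩
        · rw [FA] at hc; exact absurd hc.symm (disj j j)
        · rw [FB] at hc; exact absurd hc (disj j j)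
        · rwa [FC c h1 h2] at hc
      exact ht.2 c d (fixF c hc) (fixF d hd)
    · refine Equiv.ext fun c => ?_
      show x (F c) = F (x c)
      rcases tri c with ⟨j, rfl⟩ | ⟨j, rfl⟩ | ⟨h1, h2⟩
      · rw [FA, ← Equiv.Perm.mul_apply x, ← pow_succ', ← Equiv.Perm.mul_apply x, ← pow_succ', FA]
      · rw [FB, ← Equiv.Perm.mul_apply x, ← pow_succ', ← Equiv.Perm.mul_apply x, ← pow_succ', FB]
      · rw [FC c h1 h2, FC _ (fun h => h1 (back h)) (fun h => h2 (back h)), commute_apply hxt]
    · have h := Equiv.ext_iff.1 e a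
      change F a = t a at h
      have h0 := FA 0
      rw [pow_zero] at h0
      simp only [Equiv.Perm.one_apply] at h0
      rw [h0] at h
      obtain ⟨i, hi⟩ := hca
      exact hne i (hi.trans h.symm)

theorem cond_iff (x : Perm α) :
    Cond x ↔ (Fintype.card α ≤ x.support.card + 2 ∧ x.cycleType.Nodup) := by
  have hsupp : ∀ {a : α}, x a ≠ a → ∀ j : ℕ,
      (x ^ j) a = a ↔ (x.cycleOf a).support.card ∣ j := by
    intro a ha j
    have hcyc := Equiv.Perm.isCycle_cycleOf x ha
    rw [← hcyc.orderOf, orderOf_dvd_iff_pow_eq_one,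
      hcyc.pow_eq_one_iff' (by rwa [Equiv.Perm.cycleOf_apply_self]),
      Equiv.Perm.cycleOf_pow_apply_self]
  have hfix : Fintype.card α ≤ x.support.card + 2 ↔
      ∀ a b c, x a = a → x b = b → x c = c → a = b ∨ a = c ∨ b = c := by
    have hle : x.support.card ≤ Fintype.card α := Finset.card_le_univ _
    have hcc : (x.supportᶜ).card = Fintype.card α - x.support.card := Finset.card_compl _
    constructor
    · intro h a b c ha hb hc
      by_contra hne
      rw [not_or, not_or] at hne
      have h3 : 2 < (x.supportᶜ).card := Finset.two_lt_card_iff.2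
        ⟨a, b, c, by simpa using ha, by simpa using hb, by simpa using hc, hne.1, hne.2.1, hne.2.2⟩
      omega
    · intro h
      by_contra hlt
      obtain ⟨a, b, c, ha, hb, hc, h1, h2, h3⟩ :=
        Finset.two_lt_card_iff.1 (show 2 < (x.supportᶜ).card by omega)
      rcases h a b c (by simpa using ha) (by simpa using hb) (by simpa using hc) with e | e | e
      exacts [h1 e, h2 e, h3 e]
  rw [Cond, hfix, and_congr_right_iff]
  intro _
  rw [Equiv.Perm.cycleType_def, Multiset.nodup_map_iff_inj_on x.cycleFactorsFinset.nodup]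
  constructor
  · intro h c hc d hd hcd
    obtain ⟨hccyc, hcx⟩ := Equiv.Perm.mem_cycleFactorsFinset_iff.1 hc
    obtain ⟨hdcyc, hdx⟩ := Equiv.Perm.mem_cycleFactorsFinset_iff.1 hd
    obtain ⟨a, ha⟩ := hccyc.nonempty_support
    obtain ⟨b, hb⟩ := hdcyc.nonempty_support
    have hca := Equiv.Perm.cycle_is_cycleOf ha hc
    have hdb := Equiv.Perm.cycle_is_cycleOf hb hd
    have hxa : x a ≠ a := by rw [← hcx a ha]; exact Equiv.Perm.mem_support.1 ha
    have hxb : x b ≠ b := by rw [← hdx b hb]; exact Equiv.Perm.mem_support.1 hb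
    obtain ⟨j, hj⟩ := h a b hxa hxb fun i => by
      rw [hsupp hxa, hsupp hxb, ← hca, ← hdb]
      exact iff_of_eq (congrArg (· ∣ i) hcd)
    rw [hca, hdb, ← hj]
    exact Equiv.Perm.SameCycle.cycleOf_eq ⟨(j : ℤ), by rw [zpow_natCast]⟩
  · intro h a b ha hb hab
    have hca : x.cycleOf a ∈ x.cycleFactorsFinset :=
      Equiv.Perm.cycleOf_mem_cycleFactorsFinset_iff.2 (Equiv.Perm.mem_support.2 ha)
    have hcb : x.cycleOf b ∈ x.cycleFactorsFinset :=
      Equiv.Perm.cycleOf_mem_cycleFactorsFinset_iff.2 (Equiv.Perm.mem_support.2 hb)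
    have hcard : (x.cycleOf a).support.card = (x.cycleOf b).support.card :=
      Nat.dvd_antisymm
        ((hsupp ha _).1 ((hab _).2 ((hsupp hb _).2 dvd_rfl)))
        ((hsupp hb _).1 ((hab _).1 ((hsupp ha _).2 dvd_rfl)))
    have heq := h _ hca _ hcb hcard
    have hb' : b ∈ (x.cycleOf a).support := by
      rw [heq, Equiv.Perm.mem_support, Equiv.Perm.cycleOf_apply_self]; exact hb
    exact (Equiv.Perm.mem_support_cycleOf_iff.1 hb').1.exists_nat_pow_eq

/-- A 2-element lies in a unique Sylow 2-subgroup iff it satisfies `Cond`. -/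
theorem existsUnique_iff {x : Perm α} {k : ℕ} (hk : x ^ 2 ^ k = 1) :
    (∃! P : Sylow 2 (Perm α), x ∈ P) ↔
      (Fintype.card α ≤ x.support.card + 2 ∧ x.cycleType.Nodup) := by
  haveI : Fact (Nat.Prime 2) := ⟨Nat.prime_two⟩
  rw [← cond_iff]
  constructor
  · rintro ⟨P, -, huniq⟩
    by_contra hc
    obtain ⟨P₁, P₂, h1, h2, hne⟩ := exists_two_of_not_cond hk hc
    exact hne ((huniq _ h1).trans (huniq _ h2).symm)
  · intro hc
    have hxp : IsPGroup 2 (Subgroup.zpowers x) := by
      rw [IsPGroup.iff_card, Nat.card_zpowers]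
      obtain ⟨i, -, hi⟩ := (Nat.dvd_prime_pow Nat.prime_two).1 (orderOf_dvd_of_pow_eq_one hk)
      exact ⟨i, hi⟩
    obtain ⟨P, hP⟩ := hxp.exists_le_sylow
    exact ⟨P, hP (Subgroup.mem_zpowers x), fun Q hQ =>
      unique_of_cond _ α rfl x k hk hc Q P hQ (hP (Subgroup.mem_zpowers x))⟩

end CfsgLib.SymSylow.UniqueTwo
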